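/-
Arithmetic of the numbers q = 3^(2m+1), r = 3^(m+1), c = q - r + 1, d = q + r + 1 attached to the small Ree groups.
-/
import Mathlib

set_option autoImplicit false

namespace Cfsg.Agent.ReeTori

/-- The field size. -/
abbrev qq (m : ℕ) : ℕ := 3 ^ (2 * m + 1)

/-- The auxiliary power. -/
abbrev rr (m : ℕ) : ℕ := 3 ^ (m + 1)

/-- The order of the smaller exceptional torus. -/
abbrev cc (m : ℕ) : ℕ := 3 ^ (2 * m + 1) - 3 ^ (m + 1) + 1

/-- The order of the larger exceptional torus. -/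
abbrev dd (m : ℕ) : ℕ := 3 ^ (2 * m + 1) + 3 ^ (m + 1) + 1

variable {m : ℕ}

theorem rr_sq (m : ℕ) : rr m * rr m = 3 * qq m := by
  show 3 ^ (m + 1) * 3 ^ (m + 1) = 3 * 3 ^ (2 * m + 1)
  rw [← pow_add, ← pow_succ']
  congr 1
  omega

theorem rr_pow : rr m % 3 = 0 ∧ qq m % 3 = 0 ∧ qq m % 8 = 3 ∧ 0 < rr m ∧ rr m ≤ qq m ∧ Odd (rr m) := by
  refine ⟨?_, ?_, ?_, by positivity, Nat.pow_le_pow_right (by norm_num) (by omega), Odd.pow (by decide)⟩
  · show 3 ^ (m + 1) % 3 = 0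
    rw [pow_succ]; omega
  · show 3 ^ (2 * m + 1) % 3 = 0
    rw [pow_succ]; omega
  · show 3 ^ (2 * m + 1) % 8 = 3
    rw [pow_succ, pow_mul, Nat.mul_mod, Nat.pow_mod]; norm_num

theorem big (hm : 1 ≤ m) : 27 ≤ qq m ∧ 9 ≤ rr m ∧ rr m + 18 ≤ qq m := by
  have h1 : (27 : ℕ) ≤ qq m := le_trans (by norm_num) (Nat.pow_le_pow_right (by norm_num) (show 3 ≤ 2 * m + 1 by omega))
  have h2 : (9 : ℕ) ≤ rr m := le_trans (by norm_num) (Nat.pow_le_pow_right (by norm_num) (show 2 ≤ m + 1 by omega))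
  refine ⟨h1, h2, ?_⟩
  have h3 : rr m * 3 ≤ qq m := by
    show 3 ^ (m + 1) * 3 ≤ 3 ^ (2 * m + 1)
    rw [← pow_succ]
    exact Nat.pow_le_pow_right (by norm_num) (by omega)
  omega

theorem cc_mul_dd (m : ℕ) : cc m * dd m + qq m = qq m * qq m + 1 := by
  have h := rr_sq m
  have hle : rr m ≤ qq m := rr_pow.2.2.2.2.1
  show (qq m - rr m + 1) * (qq m + rr m + 1) + qq m = _
  zify [hle] at h ⊢
  nlinarith [h]

theorem q3_succ (m : ℕ) : qq m ^ 3 + 1 = (qq m + 1) * (cc m * dd m) := by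
  have h := cc_mul_dd m
  generalize cc m * dd m = N at h ⊢
  generalize qq m = Q at h ⊢
  zify at h ⊢
  linear_combination -((Q : ℤ) + 1) * h

theorem cc_facts (hm : 1 ≤ m) : 19 ≤ cc m ∧ 37 ≤ dd m ∧ Odd (cc m) ∧ Odd (dd m) ∧ cc m % 3 = 1 ∧ dd m % 3 = 1 := by
  obtain ⟨h1, h2, h3, h4, h5, h6⟩ := rr_pow (m := m)
  obtain ⟨b1, b2, b3⟩ := big hm
  have hodd := Nat.odd_iff.1 h6
  refine ⟨?_, ?_, ?_, ?_, ?_, ?_⟩
  · show 19 ≤ qq m - rr m + 1; omega
  · show 37 ≤ qq m + rr m + 1; omega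
  · rw [Nat.odd_iff]; show (qq m - rr m + 1) % 2 = 1; omega
  · rw [Nat.odd_iff]; show (qq m + rr m + 1) % 2 = 1; omega
  · show (qq m - rr m + 1) % 3 = 1; omega
  · show (qq m + rr m + 1) % 3 = 1; omega

theorem cc_coprime_dd (hm : 1 ≤ m) : Nat.Coprime (cc m) (dd m) := by
  obtain ⟨-, -, hc, -, hc3, -⟩ := cc_facts hm
  have hle : rr m ≤ qq m := rr_pow.2.2.2.2.1
  have e : dd m = 2 * rr m + 1 * cc m := by
    show qq m + rr m + 1 = 2 * rr m + 1 * (qq m - rr m + 1); omega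
  rw [e, Nat.coprime_add_mul_right_right]
  refine Nat.Coprime.mul_right (Nat.coprime_two_right.2 hc) (Nat.Coprime.pow_right _ ?_)
  rw [Nat.coprime_comm, Nat.prime_three.coprime_iff_not_dvd, Nat.dvd_iff_mod_eq_zero, hc3]
  norm_num

theorem zmod_five : ∀ z : ZMod 5, z * z ≠ z - 1 := by decide

/-- The facts about a prime divisor of q² - q + 1. -/
theorem prime_facts (hm : 1 ≤ m) {s : ℕ} (hs : s.Prime) (h : s ∣ cc m * dd m) :
    7 ≤ s ∧ ¬ s ∣ qq m ∧ ¬ s ∣ qq m - 1 ∧ ¬ s ∣ qq m + 1 ∧ s ∣ qq m ^ 6 - 1 ∧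
      ∀ i, 0 < i → i < 6 → ¬ s ∣ qq m ^ i - 1 := by
  obtain ⟨-, -, hco, hdo, hc3, hd3⟩ := cc_facts hm
  haveI := Fact.mk hs
  have hz : ((qq m : ℕ) : ZMod s) * qq m = qq m - 1 := by
    have h0 : ((cc m * dd m : ℕ) : ZMod s) = 0 := (ZMod.natCast_eq_zero_iff _ _).2 h
    have h1 := congrArg (fun n : ℕ => (n : ZMod s)) (cc_mul_dd m)
    simp only [Nat.cast_add, Nat.cast_mul, Nat.cast_one] at h1 h0 ⊢
    linear_combination h0 - h1
  have hq1 : 1 ≤ qq m := Nat.one_le_pow _ _ (by norm_num)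
  have cast_pow : ∀ i, s ∣ qq m ^ i - 1 ↔ ((qq m : ℕ) : ZMod s) ^ i = 1 := fun i => by
    rw [← ZMod.natCast_eq_zero_iff, Nat.cast_sub (Nat.one_le_pow _ _ hq1), Nat.cast_pow, Nat.cast_one,
      sub_eq_zero]
  have hs2 : s ≠ 2 := by
    rintro rfl
    exact Nat.not_even_iff_odd.2 (hco.mul hdo) (even_iff_two_dvd.2 h)
  have hs3 : s ≠ 3 := by
    rintro rfl
    have := Nat.mod_eq_zero_of_dvd h
    rw [Nat.mul_mod, hc3, hd3] at this
    norm_num at this
  have h30 : (3 : ZMod s) ≠ 0 := by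
    intro e
    have : ((3 : ℕ) : ZMod s) = 0 := by exact_mod_cast e
    rw [ZMod.natCast_eq_zero_iff] at this
    exact hs3 ((Nat.prime_dvd_prime_iff_eq hs Nat.prime_three).1 this)
  have h20 : (2 : ZMod s) ≠ 0 := by
    intro e
    have : ((2 : ℕ) : ZMod s) = 0 := by exact_mod_cast e
    rw [ZMod.natCast_eq_zero_iff] at this
    exact hs2 ((Nat.prime_dvd_prime_iff_eq hs Nat.prime_two).1 this)
  generalize hQ : ((qq m : ℕ) : ZMod s) = Q at hz cast_pow
  have q0 : Q ≠ 0 := fun e => by rw [e] at hz; simp at hz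
  have q1 : Q ≠ 1 := fun e => by rw [e] at hz; simp at hz
  have qn1 : Q ≠ -1 := fun e => h30 (by rw [e] at hz; linear_combination hz)
  have hd : ∀ i, 0 < i → i < 6 → ¬ s ∣ qq m ^ i - 1 := by
    intro i h1 h2 hdvd
    rw [cast_pow] at hdvd
    interval_cases i
    · exact q1 (by simpa using hdvd)
    · exact h30 (by
        have : Q = 2 := by linear_combination hdvd - hz
        rw [this] at hz; linear_combination hz)
    · exact h20 (by linear_combination (Q + 1) * hz - hdvd)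
    · exact qn1 (by linear_combination (Q * Q + Q) * hz - hdvd)
    · exact q0 (by linear_combination (Q ^ 3 + Q ^ 2 - 1) * hz - hdvd)
  refine ⟨?_, ?_, ?_, ?_, ?_, hd⟩
  · by_contra hlt
    push Not at hlt
    have h5 : s = 5 := by
      have := hs.two_le
      interval_cases s <;> first | rfl | omega | (exfalso; exact absurd hs (by norm_num))
    subst h5
    exact zmod_five Q hz
  · rw [← ZMod.natCast_eq_zero_iff, hQ]; exact q0
  · rw [show qq m - 1 = qq m ^ 1 - 1 by rw [pow_one]]; exact hd 1 one_pos (by norm_num)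
  · rw [← ZMod.natCast_eq_zero_iff, Nat.cast_add, Nat.cast_one, hQ]
    intro e
    exact qn1 (eq_neg_of_add_eq_zero_left e)
  · rw [cast_pow]
    have h3 : Q ^ 3 = -1 := by linear_combination (Q + 1) * hz
    rw [show (6 : ℕ) = 3 * 2 from rfl, pow_mul, h3]
    ring

theorem piece_one {a n : ℕ} {C D : ℕ} (hC : 7 ≤ C) (hD : 7 ≤ D) (hn : 1 ≤ n) (hn6 : n ∣ 6)
    (ha : a = C * D) (h : ((a : ℚ) - 1) / (n * a) = ((C : ℚ) - 1) / (6 * C) + ((D : ℚ) - 1) / (6 * D)) : False := by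
  subst ha
  have hCq : (7 : ℚ) ≤ C := by exact_mod_cast hC
  have hDq : (7 : ℚ) ≤ D := by exact_mod_cast hD
  have hne : ((n : ℚ)) ≠ 0 := by exact_mod_cast (by omega : n ≠ 0)
  rw [Nat.cast_mul] at h
  rw [div_add_div _ _ (by positivity) (by positivity), div_eq_div_iff (by positivity) (by positivity)] at h
  have hn' : n = 1 ∨ n = 2 ∨ n = 3 ∨ n = 6 := by
    have := Nat.le_of_dvd (by norm_num) hn6
    interval_cases n <;> simp_all
  have hCD : (49 : ℚ) ≤ C * D := by nlinarith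
  have h' : 6 * ((C : ℚ) * D - 1) = n * (2 * C * D - C - D) := by
    apply mul_right_cancel₀ (show (6 : ℚ) * C * D ≠ 0 by positivity)
    linear_combination h
  rcases hn' with rfl | rfl | rfl | rfl <;> push_cast at h' <;> nlinarith

/-- The counting equation forces exactly the two exceptional tori. -/
theorem pieces {ι : Type*} [Fintype ι] {C D : ℕ} (hC : 7 ≤ C) (hD : 7 ≤ D) (a n : ι → ℕ)
    (ha : ∀ i, 7 ≤ a i) (hn : ∀ i, n i ∣ 6) (hprod : ∏ i, a i = C * D)
    (hsum : ∑ i, ((a i : ℚ) - 1) / (n i * a i) = ((C : ℚ) - 1) / (6 * C) + ((D : ℚ) - 1) / (6 * D)) :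
    (∀ i, (a i = C ∨ a i = D) ∧ n i = 6) ∧ (∃ i, a i = C) ∧ ∃ i, a i = D := by
  classical
  have hCq : (7 : ℚ) ≤ C := by exact_mod_cast hC
  have hDq : (7 : ℚ) ≤ D := by exact_mod_cast hD
  have hn1 : ∀ i, 1 ≤ n i := fun i => Nat.pos_of_dvd_of_pos (hn i) (by norm_num)
  have hterm : ∀ i, (1 : ℚ) / 7 ≤ ((a i : ℚ) - 1) / (n i * a i) := by
    intro i
    have h1 : (7 : ℚ) ≤ a i := by exact_mod_cast ha i
    have h2 : (n i : ℚ) ≤ 6 := by exact_mod_cast Nat.le_of_dvd (by norm_num) (hn i)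
    have h3 : (1 : ℚ) ≤ n i := by exact_mod_cast hn1 i
    rw [div_le_div_iff₀ (by norm_num) (by positivity)]
    nlinarith
  have hlt : ((C : ℚ) - 1) / (6 * C) + ((D : ℚ) - 1) / (6 * D) < 1 / 3 := by
    rw [div_add_div _ _ (by positivity) (by positivity), div_lt_div_iff₀ (by positivity) (by norm_num)]
    nlinarith
  have hcard : Fintype.card ι ≤ 2 := by
    by_contra hc
    have h3 : (3 : ℚ) ≤ Fintype.card ι := by exact_mod_cast (by omega : 3 ≤ Fintype.card ι)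
    have := Finset.card_nsmul_le_sum Finset.univ _ _ (fun i _ => hterm i)
    rw [nsmul_eq_mul, Finset.card_univ, hsum] at this
    nlinarith
  interval_cases hk : Fintype.card ι
  · exfalso
    haveI := Fintype.card_eq_zero_iff.1 hk
    rw [Finset.univ_eq_empty, Finset.prod_empty] at hprod
    nlinarith
  · exfalso
    obtain ⟨i, hi⟩ := Fintype.card_eq_one_iff.1 hk
    rw [Fintype.prod_eq_single i (fun j hj => absurd (hi j) hj)] at hprod
    rw [Fintype.sum_eq_single i (fun j hj => absurd (hi j) hj)] at hsum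
    exact piece_one hC hD (hn1 i) (hn i) hprod hsum
  · obtain ⟨x, y, hxy, huniv⟩ := Finset.card_eq_two.1 (show Finset.card (Finset.univ : Finset ι) = 2 from hk)
    rw [huniv, Finset.prod_pair hxy] at hprod
    rw [huniv, Finset.sum_pair hxy] at hsum
    have six : ∀ u v : ι, ((a u : ℚ) - 1) / (n u * a u) + ((a v : ℚ) - 1) / (n v * a v) =
        ((C : ℚ) - 1) / (6 * C) + ((D : ℚ) - 1) / (6 * D) → n u = 6 := by
      intro u v huv
      by_contra h6
      have h3 : n u ≤ 3 := by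
        have hle := Nat.le_of_dvd (by norm_num) (hn u)
        have hd := hn u
        interval_cases hh : n u <;> simp_all
      have h1 : (7 : ℚ) ≤ a u := by exact_mod_cast ha u
      have h2 : (n u : ℚ) ≤ 3 := by exact_mod_cast h3
      have h4 : (1 : ℚ) ≤ n u := by exact_mod_cast hn1 u
      have : (2 : ℚ) / 7 ≤ ((a u : ℚ) - 1) / (n u * a u) := by
        rw [div_le_div_iff₀ (by norm_num) (by positivity)]
        nlinarith
      linarith [hterm v]
    have hx6 := six x y hsum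
    have hy6 := six y x (by rw [← hsum]; ring)
    rw [hx6, hy6] at hsum
    have hxq : (7 : ℚ) ≤ a x := by exact_mod_cast ha x
    have hyq : (7 : ℚ) ≤ a y := by exact_mod_cast ha y
    have hp : (a x : ℚ) * a y = C * D := by exact_mod_cast hprod
    have hs : (a x : ℚ) + a y = C + D := by
      rw [div_add_div _ _ (by positivity) (by positivity), div_add_div _ _ (by positivity) (by positivity),
        div_eq_div_iff (by push_cast; positivity) (by positivity)] at hsum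
      push_cast at hsum
      apply mul_left_cancel₀ (show (216 : ℚ) * ((a x : ℚ) * a y) ≠ 0 by positivity)
      linear_combination -hsum + (216 * ((a x : ℚ) + a y) + 0) * hp
    have hroot : ((a x : ℚ) - C) * ((a x : ℚ) - D) = 0 := by linear_combination (a x : ℚ) * hs - hp
    have hmem : ∀ i, i = x ∨ i = y := fun i => by
      have h := Finset.mem_univ i
      rw [huniv] at h
      simpa using h
    rcases mul_eq_zero.1 hroot with h | h <;> rw [sub_eq_zero, Nat.cast_inj] at h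
    · have hy' : a y = D := Nat.eq_of_mul_eq_mul_left (by omega : 0 < C) (h ▸ hprod)
      exact ⟨fun i => by rcases hmem i with rfl | rfl <;> simp [*], ⟨x, h⟩, ⟨y, hy'⟩⟩
    · have hy' : a y = C := Nat.eq_of_mul_eq_mul_left (by omega : 0 < D) (by rw [h] at hprod; linarith)
      exact ⟨fun i => by rcases hmem i with rfl | rfl <;> simp [*], ⟨y, hy'⟩, ⟨x, h⟩⟩

/-- The order of the odd part of the torus of order q + 1. -/
abbrev aa (m : ℕ) : ℕ := (3 ^ (2 * m + 1) + 1) / 4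

theorem four_aa (m : ℕ) : 4 * aa m = qq m + 1 := by
  have h := (rr_pow (m := m)).2.2.1
  show 4 * ((qq m + 1) / 4) = qq m + 1
  generalize qq m = Q at h ⊢
  omega

theorem cd_prime_not_dvd (hm : 1 ≤ m) {N : ℕ} (hN : N ∣ qq m ^ 3 * (qq m - 1) * (qq m + 1)) :
    Nat.Coprime (cc m * dd m) N := by
  refine Nat.Coprime.coprime_dvd_right hN (Nat.coprime_of_dvd fun s hs h1 h2 => ?_)
  obtain ⟨-, e1, e2, e3, -, -⟩ := prime_facts hm hs h1
  rcases (Nat.Prime.dvd_mul hs).1 h2 with h | h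
  · rcases (Nat.Prime.dvd_mul hs).1 h with h | h
    · exact e1 (hs.dvd_of_dvd_pow h)
    · exact e2 h
  · exact e3 h

theorem aa_facts (hm : 1 ≤ m) : 7 ≤ aa m ∧ Odd (aa m) ∧ Nat.Coprime (aa m) 6 ∧ Nat.Coprime (aa m) 9 ∧
    Nat.Coprime (aa m) (qq m - 1) ∧ Nat.Coprime (aa m) (qq m) ∧ Nat.Coprime (aa m) (cc m * dd m) := by
  have h4 := four_aa m
  obtain ⟨-, h3, h8, -, -, -⟩ := rr_pow (m := m)
  obtain ⟨b1, -, -⟩ := big hm
  have hodd : Odd (aa m) := by
    rw [Nat.odd_iff]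
    generalize qq m = Q at h4 h8
    omega
  have hc2 : Nat.Coprime (aa m) 2 := Nat.coprime_two_right.2 hodd
  have hc3 : Nat.Coprime (aa m) 3 := by
    rw [Nat.coprime_comm, Nat.prime_three.coprime_iff_not_dvd, Nat.dvd_iff_mod_eq_zero]
    generalize qq m = Q at h4 h3
    omega
  refine ⟨by omega, hodd, ?_, ?_, ?_, ?_, ?_⟩
  · exact Nat.Coprime.mul_right hc2 hc3 (k := aa m)
  · exact Nat.Coprime.mul_right hc3 hc3
  · refine Nat.coprime_of_dvd fun s hs h1 h2 => ?_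
    have h5 : s ∣ 2 := by
      have e : qq m + 1 - (qq m - 1) = 2 := by omega
      rw [← e]
      exact Nat.dvd_sub (h4 ▸ h1.mul_left 4) h2
    obtain rfl := (Nat.prime_dvd_prime_iff_eq hs Nat.prime_two).1 h5
    exact Nat.not_even_iff_odd.2 hodd (even_iff_two_dvd.2 h1)
  · exact Nat.Coprime.pow_right _ hc3
  · exact ((cd_prime_not_dvd hm (Dvd.intro_left _ rfl)).coprime_dvd_right ⟨4, by rw [← h4]; ring⟩).symm

theorem cd_coprime (hm : 1 ≤ m) : Nat.Coprime (cc m * dd m) 6 ∧ Nat.Coprime (cc m * dd m) 9 ∧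
    Nat.Coprime (cc m * dd m) (qq m - 1) ∧ Nat.Coprime (cc m * dd m) (qq m + 1) := by
  obtain ⟨-, -, hc, hd, c3, d3⟩ := cc_facts hm
  have h2 : Nat.Coprime (cc m * dd m) 2 := Nat.coprime_two_right.2 (hc.mul hd)
  have h3 : Nat.Coprime (cc m * dd m) 3 := by
    rw [Nat.coprime_comm, Nat.prime_three.coprime_iff_not_dvd, Nat.dvd_iff_mod_eq_zero, Nat.mul_mod, c3, d3]
    norm_num
  exact ⟨Nat.Coprime.mul_right h2 h3, Nat.Coprime.mul_right h3 h3,
    cd_prime_not_dvd hm ((Dvd.intro_left _ rfl).trans (Dvd.intro _ rfl)),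
    cd_prime_not_dvd hm (Dvd.intro_left _ rfl)⟩

theorem q_sub_facts (hm : 1 ≤ m) : (qq m - 1) % 4 = 2 ∧ Nat.Coprime (qq m - 1) 9 ∧ 26 ≤ qq m - 1 := by
  obtain ⟨-, h3, h8, -, -, -⟩ := rr_pow (m := m)
  obtain ⟨b1, -, -⟩ := big hm
  refine ⟨by omega, ?_, by omega⟩
  have h : Nat.Coprime (qq m - 1) 3 := by
    rw [Nat.coprime_comm, Nat.prime_three.coprime_iff_not_dvd, Nat.dvd_iff_mod_eq_zero]
    omega
  exact Nat.Coprime.mul_right h h

end Cfsg.Agent.ReeTori
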