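/-
The point stabiliser of the small Ree group: torus, unipotent radical, the involution of the torus and the
fixed points of torus elements.
-/
import Cfsg.Agent.Lib.Twisted.Ree.Cosets
import Cfsg.Agent.Lib.Twisted.Ree.Mult
import Cfsg.Agent.Lib.Twisted.ReeTori.Arith

set_option autoImplicit false

namespace Cfsg.Agent.ReeTori

open Cfsg.Lie Matrix Chev BNSetup Twisted.Ree

variable {F : Type*} [Field F] {m : ℕ}

/-- The small Ree group as a type. -/
abbrev RG (F : Type*) [Field F] (m : ℕ) : Type _ := ↥(G1 F m)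

/-- The points. -/
abbrev Pt (F : Type*) [Field F] (m : ℕ) : Type _ := RG F m ⧸ B1 F m

/-- The point fixed by U. -/
def pInf (F : Type*) [Field F] (m : ℕ) : Pt F m := ((1 : RG F m) : Pt F m)

/-- The opposite point. -/
def pO (F : Type*) [Field F] (m : ℕ) : Pt F m := (nG F m : Pt F m)

/-- The unipotent radical. -/
abbrev UU (F : Type*) [Field F] (m : ℕ) : Subgroup (RG F m) := (U1 F m).subgroupOf (G1 F m)

/-- The torus. -/
abbrev HH (F : Type*) [Field F] (m : ℕ) : Subgroup (RG F m) := (H1 F m).subgroupOf (G1 F m)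

theorem mem_UU {x : RG F m} : x ∈ UU F m ↔ (x : GL chevG2.Idx F) ∈ U1 F m := Subgroup.mem_subgroupOf

theorem mem_HH {x : RG F m} : x ∈ HH F m ↔ (x : GL chevG2.Idx F) ∈ H1 F m := Subgroup.mem_subgroupOf

theorem UU_le_B1 : UU F m ≤ B1 F m := fun _ hx => mem_B1.2 (U1_le_borel (mem_UU.1 hx))

theorem HH_le_B1 : HH F m ≤ B1 F m := fun _ hx => mem_B1.2 (H1_le_borel (mem_HH.1 hx))

theorem stab_pInf : MulAction.stabilizer (RG F m) (pInf F m) = B1 F m := by
  ext g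
  rw [pInf, mem_stab_coset, mem_B1]
  simp

theorem B1_fix {b : RG F m} (hb : b ∈ B1 F m) : b • pInf F m = pInf F m :=
  MulAction.mem_stabilizer_iff.1 (by rw [stab_pInf]; exact hb)

theorem mem_stab_pO {g : RG F m} :
    g • pO F m = pO F m ↔ n0 F * (g : GL chevG2.Idx F) * n0 F ∈ chevG2.borelSubgroup F := by
  rw [← MulAction.mem_stabilizer_iff, pO, mem_stab_coset]
  simp [nG, n0_inv, mul_assoc]

theorem two_point (g : RG F m) : (g • pInf F m = pInf F m ∧ g • pO F m = pO F m) ↔ g ∈ HH F m := by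
  rw [← MulAction.mem_stabilizer_iff, stab_pInf, mem_B1, mem_stab_pO, mem_HH]
  constructor
  · rintro ⟨h1, h2⟩
    exact ⟨mem_H_of_conj_mem h1 (by simpa [n0_inv, mul_assoc] using h2), g.2⟩
  · intro h
    exact ⟨H1_le_borel h, Subgroup.mem_sup_right (by simpa [n0_inv] using n0_conj_H (F := F) h.1)⟩

theorem pInf_ne_pO : pInf F m ≠ pO F m := by
  intro h
  have h2 := QuotientGroup.eq.1 h
  rw [mem_B1] at h2
  exact n0_not_borel (by simpa [nG] using h2)

theorem nG_mul_self : nG F m * nG F m = 1 := Subtype.ext n0_mul_n0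

theorem nG_pInf : nG F m • pInf F m = pO F m := by
  rw [pInf, pO, MulAction.Quotient.smul_coe, smul_eq_mul, mul_one]

theorem nG_pO : nG F m • pO F m = pInf F m := by
  rw [← nG_pInf, smul_smul, nG_mul_self, one_smul]

theorem UU_free {u : RG F m} (hu : u ∈ UU F m) (h : u • pO F m = pO F m) : u = 1 := by
  have h1 : u ∈ HH F m := (two_point u).1
    ⟨B1_fix (UU_le_B1 hu), h⟩
  have h2 : (u : GL chevG2.Idx F) ∈ chevG2.posUnipotent F ⊓ chevG2.diagonalSubgroup F :=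
    ⟨(mem_UU.1 hu).1, (mem_HH.1 h1).1⟩
  rw [U_inf_H facts good, Subgroup.mem_bot] at h2
  exact Subtype.ext h2

variable [Fintype F] [CharP F 3] (hK : Fintype.card F = 3 ^ (2 * m + 1))
include hK

theorem exists_pt (x : Pt F m) (hx : x ≠ pInf F m) : ∃ u ∈ UU F m, u • pO F m = x := by
  obtain ⟨a, rfl⟩ := QuotientGroup.mk_surjective x
  obtain ⟨u, hu, e⟩ := exists_coset hK a (fun h => hx (QuotientGroup.eq.2 (by simpa using h)))
  exact ⟨⟨u, hu.2⟩, mem_UU.2 hu, e.symm⟩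

theorem exists_two_trans {x y : Pt F m} (h : x ≠ y) :
    ∃ g : RG F m, g • x = pInf F m ∧ g • y = pO F m := by
  obtain ⟨a, rfl⟩ := QuotientGroup.mk_surjective x
  have ha : a⁻¹ • (a : Pt F m) = pInf F m := by
    rw [pInf, MulAction.Quotient.smul_coe, smul_eq_mul, inv_mul_cancel]
  obtain ⟨u, hu, e⟩ := exists_pt hK (a⁻¹ • y)
    (fun h' => h (MulAction.injective a⁻¹ (ha.trans h'.symm)))
  refine ⟨u⁻¹ * a⁻¹, ?_, ?_⟩
  · rw [mul_smul, ha]
    exact B1_fix (UU_le_B1 (inv_mem hu))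
  · rw [mul_smul, ← e, inv_smul_smul]

theorem conj_UU {b u : RG F m} (hb : b ∈ B1 F m) (hu : u ∈ UU F m) : b * u * b⁻¹ ∈ UU F m :=
  mem_UU.2 (conj_U1_by_B1 hK ⟨mem_B1.1 hb, b.2⟩ (mem_UU.1 hu))

theorem exists_UH {b : RG F m} (hb : b ∈ B1 F m) : ∃ u ∈ UU F m, ∃ k ∈ HH F m, b = u * k := by
  obtain ⟨u, hu, k, hk, e⟩ := exists_of_mem_B1 hK (g := (b : GL chevG2.Idx F)) ⟨mem_B1.1 hb, b.2⟩
  exact ⟨⟨u, hu.2⟩, mem_UU.2 hu, ⟨k, hk.2⟩, mem_HH.2 hk, Subtype.ext e⟩

theorem card_UU : Nat.card ↥(UU F m) = (3 ^ (2 * m + 1)) ^ 3 :=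
  (Nat.card_congr (Subgroup.subgroupOfEquivOfLe inf_le_right).toEquiv).trans (card_U1 hK)

theorem card_HH : Nat.card ↥(HH F m) = 3 ^ (2 * m + 1) - 1 :=
  (Nat.card_congr (Subgroup.subgroupOfEquivOfLe inf_le_right).toEquiv).trans (card_H1 hK)

theorem isCyclic_HH : IsCyclic ↥(HH F m) := by
  haveI := isCyclic_H1 (F := F) (m := m) hK
  exact isCyclic_of_surjective (Subgroup.subgroupOfEquivOfLe (inf_le_right : H1 F m ≤ G1 F m)).symm
    (MulEquiv.surjective _)

theorem pow_nine {u : RG F m} (hu : u ∈ UU F m) : u ^ 9 = 1 := by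
  obtain ⟨t, x, v, e⟩ := (mem_U1_iff hK).1 (mem_UU.1 hu)
  apply Subtype.ext
  rw [Subgroup.coe_pow, e, Subgroup.coe_one, show (9 : ℕ) = 3 * 3 from rfl, pow_mul, uW, uOf_cube, uOf_cube]
  simp [uOf_zero]

theorem card_Pt : Nat.card (Pt F m) = (3 ^ (2 * m + 1)) ^ 3 + 1 := by
  classical
  let f : Option ↥(UU F m) → Pt F m := fun o => o.elim (pInf F m) fun u => (u : RG F m) • pO F m
  have hf : Function.Bijective f := by
    constructor
    · have hfix : ∀ u : ↥(UU F m), (u : RG F m) • pO F m ≠ pInf F m := by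
        intro u h
        have h2 : (u : RG F m)⁻¹ • pInf F m = pInf F m :=
          B1_fix (UU_le_B1 (inv_mem u.2))
        rw [← h, inv_smul_smul] at h2
        exact pInf_ne_pO (by rw [h2, h])
      rintro (_ | u) (_ | w) h
      · rfl
      · exact absurd h.symm (hfix w)
      · exact absurd h (hfix u)
      · have h' : ((w : RG F m)⁻¹ * u) • pO F m = pO F m := by
          rw [mul_smul, show (u : RG F m) • pO F m = (w : RG F m) • pO F m from h, inv_smul_smul]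
        exact congrArg some (Subtype.ext (inv_mul_eq_one.1 (UU_free (mul_mem (inv_mem w.2) u.2) h')).symm)
    · intro x
      by_cases hx : x = pInf F m
      · exact ⟨none, hx.symm⟩
      · obtain ⟨u, hu, e⟩ := exists_pt hK x hx
        exact ⟨some ⟨u, hu⟩, e⟩
  rw [← Nat.card_congr (Equiv.ofBijective f hf), Finite.card_option, card_UU hK]

/-- The involution of the torus. -/
theorem exists_kk : ∃ k : RG F m, k ∈ HH F m ∧ wt (k : GL chevG2.Idx F) = -1 ∧ k * k = 1 ∧ k ≠ 1 := by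
  obtain ⟨k, hk, hkG, e⟩ := exists_torus_neg_one hK
  refine ⟨⟨k, hkG⟩, mem_HH.2 ⟨hk, hkG⟩, e, ?_, fun h => ?_⟩
  · refine Subtype.ext (torus_eq_of_wt (mul_mem hk hk) (maps_of_mem_G1 (pow_q hK) (mul_mem hkG hkG))
      (one_mem _) Maps.one ?_)
    rw [Subgroup.coe_mul, wt_mul hk hk, e]
    simp [wt]
  · have h1 : k = 1 := congrArg Subtype.val h
    rw [h1] at e
    simp only [wt, Units.val_one, Matrix.one_apply_eq] at e
    have h2 : (2 : F) = 0 := by linear_combination e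
    have h3 : (3 : F) = 0 := by exact_mod_cast CharP.cast_eq_zero F 3
    exact one_ne_zero (by linear_combination h3 - h2 : (1 : F) = 0)

/-- The involution in H. -/
noncomputable def kk : RG F m := (exists_kk hK).choose

theorem kk_spec : kk hK ∈ HH F m ∧ wt (kk hK : GL chevG2.Idx F) = -1 ∧ kk hK * kk hK = 1 ∧ kk hK ≠ 1 :=
  (exists_kk hK).choose_spec

theorem kk_inv : (kk hK)⁻¹ = kk hK := inv_eq_of_mul_eq_one_right (kk_spec hK).2.2.1

theorem eq_kk {k : RG F m} (hk : k ∈ HH F m) (h : k * k = 1) : k = 1 ∨ k = kk hK := by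
  obtain ⟨hk', hkG⟩ := mem_HH.1 hk
  have hm' := maps_of_mem_G1 (pow_q hK) hkG
  have h2 : wt (k : GL chevG2.Idx F) * wt (k : GL chevG2.Idx F) = 1 := by
    rw [← wt_mul hk' hk', ← Subgroup.coe_mul, h]
    simp [wt]
  rcases mul_self_eq_one_iff.1 h2 with e | e
  · refine Or.inl (Subtype.ext (torus_eq_of_wt hk' hm' (one_mem _) Maps.one ?_))
    rw [e]; simp [wt]
  · obtain ⟨h3, h4, -, -⟩ := kk_spec hK
    exact Or.inr (Subtype.ext (torus_eq_of_wt hk' hm' (mem_HH.1 h3).1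
      (maps_of_mem_G1 (pow_q hK) (mem_HH.1 h3).2) (e.trans h4.symm)))

theorem nG_conj_HH {k : RG F m} (hk : k ∈ HH F m) : nG F m * k * nG F m ∈ HH F m := by
  obtain ⟨hk', hkG⟩ := mem_HH.1 hk
  refine mem_HH.2 ⟨?_, mul_mem (mul_mem (n0_mem_G1 m) hkG) (n0_mem_G1 m)⟩
  simpa [nG, n0_inv] using n0_conj_H (F := F) hk'

theorem nG_comm_kk : nG F m * kk hK = kk hK * nG F m := by
  obtain ⟨h1, -, h3, h4⟩ := kk_spec hK
  have h5 : nG F m * kk hK * nG F m * (nG F m * kk hK * nG F m) = 1 := by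
    calc nG F m * kk hK * nG F m * (nG F m * kk hK * nG F m)
        = nG F m * kk hK * (nG F m * nG F m) * kk hK * nG F m := by group
      _ = 1 := by rw [nG_mul_self, mul_one, mul_assoc (nG F m) (kk hK), h3, mul_one, nG_mul_self]
  rcases eq_kk hK (nG_conj_HH hK h1) h5 with h | h
  · exfalso
    apply h4
    calc kk hK = nG F m * (nG F m * kk hK * nG F m) * nG F m := by
          rw [← mul_assoc, ← mul_assoc, nG_mul_self, one_mul, mul_assoc, nG_mul_self, mul_one]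
      _ = 1 := by rw [h, mul_one, nG_mul_self]
  · calc nG F m * kk hK = nG F m * kk hK * nG F m * nG F m := by rw [mul_assoc _ (nG F m), nG_mul_self, mul_one]
      _ = _ := by rw [h]

/-- The unipotent centraliser of the involution. -/
theorem comm_kk_iff {u : RG F m} (hu : u ∈ UU F m) :
    u * kk hK = kk hK * u ↔ ∃ x : F, (u : GL chevG2.Idx F) = uW m 0 x 0 := by
  obtain ⟨t, x, v, e⟩ := (mem_U1_iff hK).1 (mem_UU.1 hu)
  obtain ⟨h1, h2, -, -⟩ := kk_spec hK
  have hev : Even (3 ^ (m + 1) + 1) := by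
    rw [Nat.even_add_one, Nat.not_even_iff_odd]; exact Odd.pow (by decide)
  have hodd : Odd (3 ^ (m + 1) + 2) := by
    rw [Nat.odd_add]; simp [Odd.pow (show Odd 3 by decide)]
  have h20 : ∀ y : F, -1 * y = y → y = 0 := fun y hy => by
    have h3 : (3 : F) = 0 := by exact_mod_cast CharP.cast_eq_zero F 3
    linear_combination hy + y * h3
  constructor
  · intro h
    have h' : (kk hK : GL chevG2.Idx F) * u * (kk hK : GL chevG2.Idx F)⁻¹ = u := by
      rw [← Subgroup.coe_mul, ← h, Subgroup.coe_mul, mul_inv_cancel_right]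
    rw [e] at h'
    obtain ⟨e1, -, e3⟩ := (fixed_uW_iff hK (mem_HH.1 h1) t x v).1 h'
    rw [h2] at e1 e3
    rw [hodd.neg_one_pow] at e3
    exact ⟨x, by rw [e, h20 t e1, h20 v e3]⟩
  · rintro ⟨x', e'⟩
    have h' : (kk hK : GL chevG2.Idx F) * uW m 0 x' 0 * (kk hK : GL chevG2.Idx F)⁻¹ = uW m 0 x' 0 := by
      refine (fixed_uW_iff hK (mem_HH.1 h1) 0 x' 0).2 ⟨by ring, ?_, by ring⟩
      rw [h2, hev.neg_one_pow, one_mul]
    apply Subtype.ext
    rw [Subgroup.coe_mul, Subgroup.coe_mul, e']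
    exact (mul_inv_eq_iff_eq_mul.1 h').symm

/-- The group C_U(kk). -/
noncomputable def CU : Subgroup (RG F m) := UU F m ⊓ Subgroup.centralizer {kk hK}

theorem mem_CU {u : RG F m} : u ∈ CU hK ↔ u ∈ UU F m ∧ u * kk hK = kk hK * u := by
  rw [CU, Subgroup.mem_inf, Subgroup.mem_centralizer_singleton_iff]

theorem card_CU : Nat.card ↥(CU hK) = 3 ^ (2 * m + 1) := by
  have hmem : ∀ x : F, (⟨uW m 0 x 0, uW_mem_G1 m _ _ _⟩ : RG F m) ∈ CU hK := fun x =>
    (mem_CU hK).2 ⟨mem_UU.2 (uW_mem_U1 m _ _ _), (comm_kk_iff hK (mem_UU.2 (uW_mem_U1 m _ _ _))).2 ⟨x, rfl⟩⟩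
  rw [← Nat.card_congr (Equiv.ofBijective (fun x : F => (⟨_, hmem x⟩ : ↥(CU hK))) ⟨?_, ?_⟩),
    Nat.card_eq_fintype_card, hK]
  · intro a b h
    exact (uW_inj (congrArg (fun z : ↥(CU hK) => (z.1 : GL chevG2.Idx F)) h)).2.1
  · rintro ⟨u, hu⟩
    obtain ⟨x, e⟩ := (comm_kk_iff hK ((mem_CU hK).1 hu).1).1 ((mem_CU hK).1 hu).2
    exact ⟨x, Subtype.ext (Subtype.ext e.symm)⟩

theorem pow_three_CU {u : RG F m} (hu : u ∈ CU hK) : u ^ 3 = 1 := by
  obtain ⟨x, e⟩ := (comm_kk_iff hK ((mem_CU hK).1 hu).1).1 ((mem_CU hK).1 hu).2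
  apply Subtype.ext
  rw [Subgroup.coe_pow, e, Subgroup.coe_one]
  exact (uW_pow_three_iff m _ _ _).2 rfl

theorem eq_one_of_comm {k u : RG F m} (hk : k ∈ HH F m) (hk2 : k * k ≠ 1) (hu : u ∈ UU F m)
    (h : k * u = u * k) : u = 1 := by
  refine Subtype.ext (eq_one_of_fixed hK (mem_HH.1 hk) (fun e => hk2 ?_) (mem_UU.1 hu) ?_)
  · refine Subtype.ext (torus_eq_of_wt (mul_mem (mem_HH.1 hk).1 (mem_HH.1 hk).1)
      (maps_of_mem_G1 (pow_q hK) (mul_mem (mem_HH.1 hk).2 (mem_HH.1 hk).2)) (one_mem _) Maps.one ?_)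
    rw [Subgroup.coe_mul, wt_mul (mem_HH.1 hk).1 (mem_HH.1 hk).1, ← sq, e]
    simp [wt]
  · rw [← Subgroup.coe_mul, h, Subgroup.coe_mul, mul_inv_cancel_right]

/-- A torus element of order above 2 fixes just the two points. -/
theorem fixed_two {k : RG F m} (hk : k ∈ HH F m) (hk2 : k * k ≠ 1) {x : Pt F m} (hx : k • x = x) :
    x = pInf F m ∨ x = pO F m := by
  by_cases h : x = pInf F m
  · exact Or.inl h
  obtain ⟨u, hu, rfl⟩ := exists_pt hK x h
  refine Or.inr ?_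
  have hfix := ((two_point k).2 hk).2
  have h1 : (u⁻¹ * (k * u * k⁻¹)) • pO F m = pO F m := by
    rw [mul_smul, mul_smul, inv_smul_eq_iff.2 hfix.symm, mul_smul, hx, inv_smul_smul]
  have h2 := UU_free (mul_mem (inv_mem hu) (conj_UU hK (HH_le_B1 hk) hu)) h1
  have h3 : k * u = u * k := (mul_inv_eq_iff_eq_mul.1 (inv_mul_eq_one.1 h2).symm)
  rw [eq_one_of_comm hK hk hk2 hu h3, one_smul]

/-- The points fixed by the involution. -/
theorem fixed_kk {x : Pt F m} : kk hK • x = x ↔ x = pInf F m ∨ ∃ u ∈ CU hK, u • pO F m = x := by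
  obtain ⟨h1, -, -, -⟩ := kk_spec hK
  obtain ⟨f1, f2⟩ := (two_point (kk hK)).2 h1
  constructor
  · intro hx
    by_cases h : x = pInf F m
    · exact Or.inl h
    obtain ⟨u, hu, rfl⟩ := exists_pt hK x h
    refine Or.inr ⟨u, (mem_CU hK).2 ⟨hu, ?_⟩, rfl⟩
    have h1' : (u⁻¹ * (kk hK * u * (kk hK)⁻¹)) • pO F m = pO F m := by
      rw [mul_smul, mul_smul, inv_smul_eq_iff.2 f2.symm, mul_smul, hx, inv_smul_smul]
    have h2 := UU_free (mul_mem (inv_mem hu) (conj_UU hK (HH_le_B1 h1) hu)) h1'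
    exact (mul_inv_eq_iff_eq_mul.1 (inv_mul_eq_one.1 h2).symm).symm
  · rintro (rfl | ⟨u, hu, rfl⟩)
    · exact f1
    · rw [smul_smul, ← ((mem_CU hK).1 hu).2, mul_smul, f2]

theorem card_fixed_kk : Nat.card {x : Pt F m // kk hK • x = x} = 3 ^ (2 * m + 1) + 1 := by
  classical
  let f : Option ↥(CU hK) → {x : Pt F m // kk hK • x = x} := fun o => o.elim
    ⟨pInf F m, (fixed_kk hK).2 (Or.inl rfl)⟩
    fun u => ⟨(u : RG F m) • pO F m, (fixed_kk hK).2 (Or.inr ⟨u, u.2, rfl⟩)⟩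
  have hne : ∀ u : ↥(CU hK), (u : RG F m) • pO F m ≠ pInf F m := by
    intro u h
    have h2 : (u : RG F m)⁻¹ • pInf F m = pInf F m := B1_fix (UU_le_B1 (inv_mem ((mem_CU hK).1 u.2).1))
    rw [← h, inv_smul_smul] at h2
    exact pInf_ne_pO (by rw [h2, h])
  have hf : Function.Bijective f := by
    constructor
    · rintro (_ | u) (_ | w) h
      · rfl
      · exact absurd (congrArg Subtype.val h).symm (hne w)
      · exact absurd (congrArg Subtype.val h) (hne u)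
      · have h' : ((w : RG F m)⁻¹ * u) • pO F m = pO F m := by
          rw [mul_smul, show (u : RG F m) • pO F m = (w : RG F m) • pO F m from congrArg Subtype.val h,
            inv_smul_smul]
        exact congrArg some (Subtype.ext (inv_mul_eq_one.1 (UU_free
          (mul_mem (inv_mem ((mem_CU hK).1 w.2).1) ((mem_CU hK).1 u.2).1) h')).symm)
    · rintro ⟨x, hx⟩
      rcases (fixed_kk hK).1 hx with rfl | ⟨u, hu, rfl⟩
      · exact ⟨none, rfl⟩
      · exact ⟨some ⟨u, hu⟩, rfl⟩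
  rw [← Nat.card_congr (Equiv.ofBijective f hf), Finite.card_option, card_CU hK]

/-- The elements of the point stabiliser up to conjugation. -/
theorem classify_B1 {b : RG F m} (hb : b ∈ B1 F m) :
    b ∈ UU F m ∨ (∃ g ∈ B1 F m, g * b * g⁻¹ ∈ HH F m ∧ b * b ∉ UU F m) ∨
      ∃ g ∈ B1 F m, ∃ c ∈ CU hK, g * b * g⁻¹ = kk hK * c := by
  classical
  obtain ⟨u, hu, k, hk, rfl⟩ := exists_UH hK hb
  obtain ⟨k1, -, k3, k4⟩ := kk_spec hK
  have hHU : ∀ z : RG F m, z ∈ HH F m → z ∈ UU F m → z = 1 := fun z hz hz' =>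
    UU_free hz' ((two_point z).2 hz).2
  by_cases hk2 : k * k = 1
  · rcases eq_kk hK hk hk2 with rfl | rfl
    · exact Or.inl (by rwa [mul_one])
    refine Or.inr (Or.inr ?_)
    set b := u * kk hK with hbdef
    have hkB := HH_le_B1 k1
    have hsq : b * b ∈ UU F m := by
      rw [hbdef, show u * kk hK * (u * kk hK) = u * (kk hK * u * (kk hK)⁻¹) * (kk hK * kk hK) by group, k3, mul_one]
      exact mul_mem hu (conj_UU hK hkB hu)
    have h18 : b ^ 18 = 1 := by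
      rw [show (18 : ℕ) = 2 * 9 from rfl, pow_mul, sq, pow_nine hK hsq]
    obtain ⟨w, hw, e9⟩ : ∃ w ∈ UU F m, b ^ 9 = w * kk hK := by
      refine ⟨(b * b) ^ 4 * u, mul_mem (pow_mem hsq 4) hu, ?_⟩
      rw [mul_assoc, ← hbdef, ← sq, ← pow_mul, ← pow_succ]
    have hw2 : kk hK * w * kk hK = w⁻¹ := by
      have h9 : b ^ 9 * b ^ 9 = 1 := by rw [← pow_add]; exact h18
      rw [e9] at h9
      exact eq_inv_of_mul_eq_one_right (by rw [← h9]; group)
    set s := (w ^ 5)⁻¹ with hsdef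
    have hsU : w ^ 5 ∈ UU F m := pow_mem hw 5
    have hs2 : kk hK * w ^ 5 * kk hK = (w ^ 5)⁻¹ := by
      have hc : kk hK * w * (kk hK)⁻¹ = w⁻¹ := by rw [kk_inv hK]; exact hw2
      calc kk hK * w ^ 5 * kk hK = kk hK * w ^ 5 * (kk hK)⁻¹ := by rw [kk_inv hK]
        _ = (kk hK * w * (kk hK)⁻¹) ^ 5 := conj_pow.symm
        _ = _ := by rw [hc, inv_pow]
    have hconj : s * (w * kk hK) * s⁻¹ = kk hK := by
      rw [hsdef, inv_inv]
      calc (w ^ 5)⁻¹ * (w * kk hK) * w ^ 5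
          = (w ^ 5)⁻¹ * w * (kk hK * w ^ 5 * kk hK) * kk hK := by
            simp only [mul_assoc]; rw [k3, mul_one]
        _ = (w ^ 9)⁻¹ * kk hK := by rw [hs2]; group
        _ = kk hK := by rw [pow_nine hK hw, inv_one, one_mul]
    have hsB : s ∈ B1 F m := inv_mem (UU_le_B1 hsU)
    have hcomm : s * b * s⁻¹ * kk hK = kk hK * (s * b * s⁻¹) := by
      rw [← hconj, ← e9]
      group
    refine ⟨s, hsB, kk hK * (s * b * s⁻¹), ?_, ?_⟩
    · refine (mem_CU hK).2 ⟨?_, ?_⟩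
      · have e : kk hK * (s * b * s⁻¹) =
            (kk hK * s * (kk hK)⁻¹) * ((kk hK * u * (kk hK)⁻¹) * ((kk hK * kk hK) * s⁻¹)) := by
          rw [hbdef]; group
        rw [e, k3, one_mul]
        exact mul_mem (conj_UU hK hkB (inv_mem hsU)) (mul_mem (conj_UU hK hkB hu) (by rw [hsdef, inv_inv]; exact hsU))
      · rw [mul_assoc, hcomm]
    · rw [← mul_assoc (kk hK) (kk hK), k3, one_mul]
  · refine Or.inr (Or.inl ?_)
    let f : ↥(UU F m) → ↥(UU F m) := fun w =>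
      ⟨(w : RG F m) * (k * (w : RG F m)⁻¹ * k⁻¹), mul_mem w.2 (conj_UU hK (HH_le_B1 hk) (inv_mem w.2))⟩
    have hinj : Function.Injective f := by
      intro a b h
      have h' : (a : RG F m) * (k * (a : RG F m)⁻¹ * k⁻¹) = b * (k * (b : RG F m)⁻¹ * k⁻¹) :=
        congrArg Subtype.val h
      have h2 : k * ((b : RG F m)⁻¹ * a) = ((b : RG F m)⁻¹ * a) * k := by
        calc k * ((b : RG F m)⁻¹ * a) = (b : RG F m)⁻¹ * (b * (k * (b : RG F m)⁻¹ * k⁻¹)) * (k * a) := by group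
          _ = (b : RG F m)⁻¹ * (a * (k * (a : RG F m)⁻¹ * k⁻¹)) * (k * a) := by rw [h']
          _ = _ := by group
      exact Subtype.ext (inv_mul_eq_one.1 (eq_one_of_comm hK hk hk2 (mul_mem (inv_mem b.2) a.2) h2)).symm
    obtain ⟨w, hw⟩ := (Finite.injective_iff_surjective.1 hinj) ⟨u, hu⟩
    have hw' : (w : RG F m) * (k * (w : RG F m)⁻¹ * k⁻¹) = u := congrArg Subtype.val hw
    refine ⟨(w : RG F m)⁻¹, inv_mem (UU_le_B1 w.2), ?_, fun hU => hk2 (hHU _ (mul_mem hk hk) ?_)⟩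
    · rw [← hw']; convert hk using 1; group
    · have e : k * k = (k * u⁻¹ * k⁻¹) * (u⁻¹ * (u * k * (u * k))) := by group
      rw [e]
      exact mul_mem (conj_UU hK (HH_le_B1 hk) (inv_mem hu)) (mul_mem (inv_mem hu) hU)

end Cfsg.Agent.ReeTori
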