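/-
An elementary abelian subgroup of order 8 of the small Ree group all of whose involutions fix a point.
-/
import Cfsg.Agent.Lib.Twisted.ReeTori.Borel
import Cfsg.Agent.Lib.Twisted.Ree.SylowTwo

set_option autoImplicit false

namespace Cfsg.Agent.ReeTori

open Cfsg.Lie Matrix Chev BNSetup Twisted Twisted.Ree

variable {F : Type*} [Field F]

/-- The seven involutions as words. -/
def seven : List (List (ℕ × ℤ)) :=
  [n0Word, aWord, bWord, n0Word ++ aWord, n0Word ++ bWord, aWord ++ bWord, n0Word ++ aWord ++ bWord]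

/-- Parameters of fixed points of the seven involutions. -/
def witness : List (ℤ × ℤ × ℤ) := [(0, 1, 1), (0, -1, 1), (1, 1, 1), (0, 0, 1), (1, 0, 1), (0, 0, 0), (1, 0, -1)]

/-- The word of the inverse. -/
def invW (w : List (ℕ × ℤ)) : List (ℕ × ℤ) := w.reverse.map fun p => (p.1, -p.2)

/-- The word whose membership in B expresses the fixed point. -/
def fixWord (g : List (ℕ × ℤ)) (x : ℤ × ℤ × ℤ) : List (ℕ × ℤ) :=
  n0Word ++ invW (uZ x.1 x.2.1 x.2.2) ++ g ++ uZ x.1 x.2.1 x.2.2 ++ n0Word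

theorem fix_checks : ∀ i < 7,
    (applyW chevG2 (dropZ (fixWord (seven.getD i []) (witness.getD i (0, 0, 0)))) (unitZ chevG2 13)).getD 2 0 % 3 = 0 ∧
    ∀ p ∈ fixWord (seven.getD i []) (witness.getD i (0, 0, 0)), p.1 < 12 := by
  decide +kernel

theorem witness_range : ∀ i < 7, ∀ z ∈ [(witness.getD i (0, 0, 0)).1, (witness.getD i (0, 0, 0)).2.1,
    (witness.getD i (0, 0, 0)).2.2], z = 0 ∨ z = 1 ∨ z = -1 := by decide

/-- The matrix of an integer word. -/
abbrev cw (F : Type*) [Field F] (w : List (ℕ × ℤ)) : Matrix chevG2.Idx chevG2.Idx F :=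
  chevG2.wordMat F (w.map fun p => (p.1, (p.2 : F)))

theorem cw_append (w w' : List (ℕ × ℤ)) : cw F (w ++ w') = cw F w * cw F w' := by
  simp [cw, List.map_append, wordMat_append]

theorem cw_invW (w : List (ℕ × ℤ)) (hw : ∀ p ∈ w, p.1 < 12) : cw F (invW w) * cw F w = 1 := by
  induction w with
  | nil => simp [invW, cw, ChevalleyDatum.wordMat]
  | cons p w ih =>
    have hp : p.1 < 12 := hw p List.mem_cons_self
    have ih' := ih fun q hq => hw q (List.mem_cons_of_mem _ hq)
    rw [show invW (p :: w) = invW w ++ [(p.1, -p.2)] by simp [invW], show p :: w = [p] ++ w from rfl,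
      cw_append, cw_append, mul_assoc, ← mul_assoc (cw F [(p.1, -p.2)])]
    have h1 : cw F [(p.1, -p.2)] * cw F [p] = 1 := by
      simp only [cw, ChevalleyDatum.wordMat, List.map_cons, List.map_nil, List.prod_cons, List.prod_nil, mul_one]
      rw [← coe_xe good, ← coe_xe good, ← Units.val_mul, xe_add good hp]
      simp [xe_zero good hp]
    rw [h1, one_mul, ih']

/-- Products of three commuting involutions multiply bitwise. -/
theorem mul_list {G : Type*} [Group G] {n a b : G} (n2 : n * n = 1) (a2 : a * a = 1) (b2 : b * b = 1)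
    (hna : n * a = a * n) (hnb : n * b = b * n) (hab : a * b = b * a) (i j k i' j' k' : Bool) :
    (if i then n else 1) * (if j then a else 1) * (if k then b else 1) *
      ((if i' then n else 1) * (if j' then a else 1) * (if k' then b else 1)) =
    (if xor i i' then n else 1) * (if xor j j' then a else 1) * (if xor k k' then b else 1) := by
  have hc : ∀ {g g' : G}, g * g' = g' * g → ∀ p r : Bool,
      Commute (if p then g else 1) (if r then g' else 1) := by
    intro g g' h p r; cases p <;> cases r <;> simp [commute_iff_eq, h]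
  have hs : ∀ {g : G}, g * g = 1 → ∀ p r : Bool,
      (if p then g else 1) * (if r then g else 1) = if xor p r then g else 1 := by
    intro g h p r; cases p <;> cases r <;> simp [h]
  rw [← hs n2 i i', ← hs a2 j j', ← hs b2 k k']
  have e1 : (if k then b else 1) * (if i' then n else 1) = (if i' then n else 1) * (if k then b else 1) :=
    (hc hnb i' k).eq.symm
  have e2 : (if k then b else 1) * (if j' then a else 1) = (if j' then a else 1) * (if k then b else 1) :=
    (hc hab j' k).eq.symm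
  have e3 : (if j then a else 1) * (if i' then n else 1) = (if i' then n else 1) * (if j then a else 1) :=
    (hc hna i' j).eq.symm
  generalize (if i then n else 1) = N, (if i' then n else 1) = N', (if j then a else 1) = A,
    (if j' then a else 1) = A', (if k then b else 1) = B, (if k' then b else 1) = B' at e1 e2 e3 ⊢
  calc N * A * B * (N' * A' * B') = N * A * (B * N') * A' * B' := by group
    _ = N * (A * N') * (B * A') * B' := by rw [e1]; group
    _ = _ := by rw [e2, e3]; group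

theorem sq_list {G : Type*} [Group G] {n a b : G} (n2 : n * n = 1) (a2 : a * a = 1) (b2 : b * b = 1)
    (hna : n * a = a * n) (hnb : n * b = b * n) (hab : a * b = b * a) (i j k : Bool) :
    (if i then n else 1) * (if j then a else 1) * (if k then b else 1) *
      ((if i then n else 1) * (if j then a else 1) * (if k then b else 1)) = 1 := by
  rw [mul_list n2 a2 b2 hna hnb hab]
  simp

theorem exists_eight_list {G : Type*} [Group G] {n a b : G} (n2 : n * n = 1)
    (a2 : a * a = 1) (b2 : b * b = 1) (hna : n * a = a * n) (hnb : n * b = b * n)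
    (hab : a * b = b * a) (h1 : n ≠ 1) (h2 : a ≠ 1) (h3 : b ≠ 1) (h4 : n * a ≠ 1)
    (h5 : n * b ≠ 1) (h6 : a * b ≠ 1) (h7 : n * a * b ≠ 1) :
    ∃ E : Subgroup G, IsMulCommutative ↥E ∧ IsPGroup 2 ↥E ∧ Nat.card ↥E = 8 ∧
      ∀ x ∈ E, ∃ i j k : Bool, x = (if i then n else 1) * (if j then a else 1) * (if k then b else 1) := by
  let f : Bool × Bool × Bool → G := fun x =>
    (if x.1 then n else 1) * (if x.2.1 then a else 1) * (if x.2.2 then b else 1)
  have hone : f (false, false, false) = 1 := by simp [f]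
  have hinj : Function.Injective f := by
    intro x y e
    obtain ⟨i, j, k⟩ := x
    obtain ⟨i', j', k'⟩ := y
    have h : f (xor i i', xor j j', xor k k') = 1 := by
      refine (mul_list n2 a2 b2 hna hnb hab i j k i' j' k').symm.trans ?_
      show f (i, j, k) * f (i', j', k') = 1
      rw [e]
      exact sq_list n2 a2 b2 hna hnb hab i' j' k'
    cases i <;> cases j <;> cases k <;> cases i' <;> cases j' <;> cases k' <;>
      first
      | rfl
      | exact absurd h (by simp [f, h1, h2, h3, h4, h5, h6, h7])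
  let E : Subgroup G :=
    { carrier := Set.range f
      one_mem' := ⟨_, hone⟩
      mul_mem' := by
        rintro _ _ ⟨x, rfl⟩ ⟨y, rfl⟩
        exact ⟨(xor x.1 y.1, xor x.2.1 y.2.1, xor x.2.2 y.2.2),
          (mul_list n2 a2 b2 hna hnb hab _ _ _ _ _ _).symm⟩
      inv_mem' := by
        rintro _ ⟨x, rfl⟩
        exact ⟨x, (inv_eq_of_mul_eq_one_right (sq_list n2 a2 b2 hna hnb hab _ _ _)).symm⟩ }
  refine ⟨E, ⟨⟨?_⟩⟩, ?_, ?_, ?_⟩
  · rintro ⟨_, x, rfl⟩ ⟨_, y, rfl⟩
    refine Subtype.ext ?_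
    show f x * f y = f y * f x
    simp only [f]
    rw [mul_list n2 a2 b2 hna hnb hab, mul_list n2 a2 b2 hna hnb hab, Bool.xor_comm x.1, Bool.xor_comm x.2.1,
      Bool.xor_comm x.2.2]
  · rintro ⟨_, x, rfl⟩
    exact ⟨1, Subtype.ext (by
      show f x ^ 2 ^ 1 = 1
      rw [pow_one, sq]; exact sq_list n2 a2 b2 hna hnb hab _ _ _)⟩
  · show Nat.card ↥(Set.range f) = 8
    rw [Nat.card_range_of_injective hinj]; simp
  · rintro _ ⟨x, rfl⟩
    exact ⟨x.1, x.2.1, x.2.2, rfl⟩

variable [CharP F 3] [Fintype F] {m : ℕ} (hK : Fintype.card F = 3 ^ (2 * m + 1))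
include hK

theorem entry_ne_zero {g : RG F m} (hg : g ∉ B1 F m) :
    ((g : GL chevG2.Idx F) : Matrix chevG2.Idx chevG2.Idx F) (Sum.inr ⟨0, by decide⟩) (Sum.inr ⟨11, by decide⟩) ≠ 0 := by
  obtain ⟨u, hu, k, hk, w, hw, e⟩ := exists_of_not_mem_B1 hK g.2 (fun h => hg (mem_B1.2 h))
  have hu' := hu.1
  have hw' := hw.1
  rw [e, Units.val_mul, Units.val_mul, Units.val_mul, Matrix.mul_apply,
    Finset.sum_eq_single (Sum.inr ⟨11, by decide⟩ : chevG2.Idx) (fun b _ hb => by
      rw [U_col hw' b, if_neg hb, mul_zero]) (by simp),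
    U_col hw', if_pos rfl, mul_one, mul_n0_apply, Matrix.mul_apply,
    Finset.sum_eq_single (Sum.inr ⟨0, by decide⟩ : chevG2.Idx) (fun b _ hb => by
      rw [U_row hu' b, if_neg hb, zero_mul]) (by simp),
    U_row hu', if_pos rfl, one_mul, (torus_form hk.1).2.2,
    show mir (Sum.inr ⟨11, by decide⟩ : chevG2.Idx) = Sum.inr ⟨0, by decide⟩ from rfl, hdiag,
    Matrix.diagonal_apply_eq, Sum.elim_inr, chi]
  exact neg_ne_zero.2 (mul_ne_zero (zpow_ne_zero _ (torus_form hk.1).1) (zpow_ne_zero _ (torus_form hk.1).2.1))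

theorem mem_B1_of_entry {g : RG F m} {w : List (ℕ × ℤ)} (hw : ∀ p ∈ w, p.1 < 12)
    (hg : ((g : GL chevG2.Idx F) : Matrix chevG2.Idx chevG2.Idx F) = cw F w)
    (h : (applyW chevG2 (dropZ w) (unitZ chevG2 13)).getD 2 0 % 3 = 0) : g ∈ B1 F m := by
  by_contra hne
  apply entry_ne_zero hK hne
  rw [hg, cw, ← wordMat_dropZ w hw, wordMat_apply (D := chevG2) _ (lt_of_mem_dropZ hw)]
  exact (cast_eq_of_mod (F := F) (b := 0) (h.trans (Int.zero_emod 3).symm)).trans Int.cast_zero

/-- Every Sylow 2-subgroup consists of involutions fixing points. -/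
theorem exists_eight : ∃ T : Subgroup (RG F m), IsMulCommutative ↥T ∧ IsPGroup 2 ↥T ∧ Nat.card ↥T = 8 ∧
    ∀ x ∈ T, x ≠ 1 → x * x = 1 ∧ ∃ pt : Pt F m, x • pt = pt := by
  classical
  have hp : ∀ z : ℤ, (z = 0 ∨ z = 1 ∨ z = -1) → (z : F) ^ 3 ^ m = z := by
    rintro z (rfl | rfl | rfl)
    · simp
    · simp
    · push_cast; exact (Odd.pow (by decide : Odd 3)).neg_one_pow
  have h0 := hp 0 (Or.inl rfl)
  have h1 := hp 1 (Or.inr (Or.inl rfl))
  have h9 := hp (-1) (Or.inr (Or.inr rfl))
  obtain ⟨c1, c2, c3, c4, c5, c6, c7, c8, c9, c10, c11, c12, c13⟩ := checks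
  let n : RG F m := nG F m
  let u : ℤ → ℤ → ℤ → RG F m := fun t x v => ⟨uW m (t : F) x v, uW_mem_G1 m _ _ _⟩
  let a : RG F m := u 0 1 0 * n * u 0 (-1) 0
  let b : RG F m := u 0 0 1 * n * u 0 1 (-1) * n * u 1 0 (-1)
  let M : RG F m → Matrix chevG2.Idx chevG2.Idx F := fun g => ((g : GL chevG2.Idx F) : Matrix chevG2.Idx chevG2.Idx F)
  have hM : Function.Injective M := fun g g' e => Subtype.ext (Units.ext e)
  have hMm : ∀ g g', M (g * g') = M g * M g' := fun g g' => rfl
  have hn : M n = cw F n0Word := coe_n0_word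
  have ha : M a = cw F aWord := by
    simp only [a, aWord, cw_append, hMm, hn]
    simp only [M, u, cw, uW_intCast m h0 h1 h0, uW_intCast m h0 h9 h0]
  have hb : M b = cw F bWord := by
    simp only [b, bWord, cw_append, hMm, hn]
    simp only [M, u, cw, uW_intCast m h0 h0 h1, uW_intCast m h0 h1 h9, uW_intCast m h1 h0 h9]
  have hlt : ∀ w ∈ seven, ∀ p ∈ w, p.1 < 12 := by decide +kernel
  have hone : cw F [] = 1 := by simp [cw, ChevalleyDatum.wordMat]
  have hapl : ∀ {w w' : List (ℕ × ℤ)}, (∀ p ∈ w, p.1 < 12) → (∀ p ∈ w', p.1 < 12) → ∀ p ∈ w ++ w', p.1 < 12 :=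
    fun hw hw' p hp => (List.mem_append.1 hp).elim (hw p) (hw' p)
  have hnl := hlt n0Word (by simp [seven])
  have hal := hlt aWord (by simp [seven])
  have hbl := hlt bWord (by simp [seven])
  have sq : ∀ {g : RG F m} {w}, M g = cw F w → eqW (w ++ w) [] = true → (∀ p ∈ w, p.1 < 12) →
      g * g = 1 := fun {g w} hg h hw => hM (by
    rw [hMm, hg, ← cw_append]
    exact (wordMat_eq_of_eqW h (hapl hw hw) (by simp)).trans hone)
  have comm : ∀ {g g' : RG F m} {w w'}, M g = cw F w → M g' = cw F w' →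
      eqW (w ++ w') (w' ++ w) = true → (∀ p ∈ w, p.1 < 12) → (∀ p ∈ w', p.1 < 12) →
      g * g' = g' * g := fun {g g' w w'} hg hg' h hw hw' => hM (by
    rw [hMm, hMm, hg, hg', ← cw_append, ← cw_append]
    exact wordMat_eq_of_eqW h (hapl hw hw') (hapl hw' hw))
  have ne1 : ∀ {g : RG F m} {w}, M g = cw F w → neOne w = true → (∀ p ∈ w, p.1 < 12) → g ≠ 1 :=
    fun {g w} hg h hw e => wordMat_ne_one (F := F) h hw (by
      rw [show chevG2.wordMat F _ = M g from hg.symm, e]; rfl)
  have n2 := sq hn c1 hnl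
  have a2 := sq ha c2 hal
  have b2 := sq hb c3 hbl
  have hna := comm hn ha c4 hnl hal
  have hnb := comm hn hb c5 hnl hbl
  have hab := comm ha hb c6 hal hbl
  have n1 := ne1 hn c7 hnl
  have a1 := ne1 ha c8 hal
  have b1 := ne1 hb c9 hbl
  have eNA : M (n * a) = cw F (n0Word ++ aWord) := by rw [hMm, hn, ha, cw_append]
  have eNB : M (n * b) = cw F (n0Word ++ bWord) := by rw [hMm, hn, hb, cw_append]
  have eAB : M (a * b) = cw F (aWord ++ bWord) := by rw [hMm, ha, hb, cw_append]
  have eNAB : M (n * a * b) = cw F (n0Word ++ aWord ++ bWord) := by rw [hMm, eNA, hb, ← cw_append]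
  have na1 := ne1 eNA c10 (hapl hnl hal)
  have nb1 := ne1 eNB c11 (hapl hnl hbl)
  have ab1 := ne1 eAB c12 (hapl hal hbl)
  have nab1 := ne1 eNAB c13 (hapl (hapl hnl hal) hbl)
  -- each of the seven words fixes the witness point
  have hfix : ∀ i, i < 7 → ∀ g : RG F m, M g = cw F (seven.getD i []) → ∃ pt : Pt F m, g • pt = pt := by
    intro i hi g hg
    obtain ⟨h, hl⟩ := fix_checks i hi
    have hr := witness_range i hi
    set x := witness.getD i (0, 0, 0) with hx
    let v : RG F m := u x.1 x.2.1 x.2.2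
    have hv : M v = cw F (uZ x.1 x.2.1 x.2.2) :=
      uW_intCast m (hp _ (hr _ List.mem_cons_self)) (hp _ (hr _ (List.mem_cons_of_mem _ List.mem_cons_self)))
        (hp _ (hr _ (List.mem_cons_of_mem _ (List.mem_cons_of_mem _ List.mem_cons_self))))
    have hvl : ∀ p ∈ uZ x.1 x.2.1 x.2.2, p.1 < 12 := fun p hp => hl p (by
      simp only [fixWord, List.mem_append]; exact Or.inl (Or.inr hp))
    have hvi : M v⁻¹ = cw F (invW (uZ x.1 x.2.1 x.2.2)) := by
      have e1 : cw F (invW (uZ x.1 x.2.1 x.2.2)) * M v = 1 := by rw [hv]; exact cw_invW _ hvl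
      calc M v⁻¹ = cw F (invW (uZ x.1 x.2.1 x.2.2)) * M v * M v⁻¹ := by rw [e1, one_mul]
        _ = _ := by rw [mul_assoc, ← hMm, mul_inv_cancel]; exact mul_one _
    refine ⟨v • pO F m, ?_⟩
    have hB : n * v⁻¹ * g * v * n ∈ B1 F m := by
      refine mem_B1_of_entry hK hl ?_ h
      show M (n * v⁻¹ * g * v * n) = cw F (fixWord (seven.getD i []) x)
      rw [hMm, hMm, hMm, hMm, hn, hvi, hg, hv, fixWord, cw_append, cw_append, cw_append, cw_append]
    have h2 := B1_fix hB
    have h3 := congrArg (fun p => (v * n) • p) h2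
    simp only [smul_smul] at h3
    have hn2 : n * n = 1 := nG_mul_self
    rw [show v * n * (n * v⁻¹ * g * v * n) = v * (n * n) * v⁻¹ * g * v * n by group, hn2, mul_one,
      mul_inv_cancel, one_mul, mul_smul, mul_smul, show n • pInf F m = pO F m from nG_pInf, mul_smul,
      show n • pInf F m = pO F m from nG_pInf] at h3
    exact h3
  obtain ⟨E, hEc, hEp, hE8, hmem⟩ :=
    exists_eight_list n2 a2 b2 hna hnb hab n1 a1 b1 na1 nb1 ab1 nab1
  refine ⟨E, hEc, hEp, hE8, fun x hx hx1 => ?_⟩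
  obtain ⟨i, j, k, rfl⟩ := hmem x hx
  refine ⟨?_, ?_⟩
  · exact sq_list n2 a2 b2 hna hnb hab i j k
  cases i <;> cases j <;> cases k <;> simp only [Bool.false_eq_true, if_false, if_true, one_mul, mul_one] at hx1 ⊢
  · exact absurd rfl hx1
  · exact hfix 2 (by norm_num) b hb
  · exact hfix 1 (by norm_num) a ha
  · exact hfix 5 (by norm_num) (a * b) eAB
  · exact hfix 0 (by norm_num) n hn
  · exact hfix 4 (by norm_num) (n * b) eNB
  · exact hfix 3 (by norm_num) (n * a) eNA
  · exact hfix 6 (by norm_num) (n * a * b) eNAB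

end Cfsg.Agent.ReeTori
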