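/-
SL(2, q) for fields in which -1 is not a square: elements of order dividing 4, the non-split torus, and the
orders of elements modulo the centre.
-/
import Cfsg.Agent.Lib.Chev.SL2

set_option autoImplicit false

namespace Cfsg.Agent.ReeTori

open Matrix Chev
open scoped MatrixGroups

variable {F : Type*} [Field F]

/-- A matrix equal to plus or minus one. -/
def IsSgn (M : SL(2, F)) : Prop :=
  (M : Matrix (Fin 2) (Fin 2) F) = 1 ∨ (M : Matrix (Fin 2) (Fin 2) F) = -1

theorem coe_flip_sq : ((flipSL * flipSL : SL(2, F)) : Matrix (Fin 2) (Fin 2) F) = -1 := by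
  rw [Matrix.SpecialLinearGroup.coe_mul, coe_flipSL]
  ext i j
  fin_cases i <;> fin_cases j <;> simp [Matrix.mul_apply, Fin.sum_univ_two]

theorem coe_flip_inv : ((flipSL⁻¹ : SL(2, F)) : Matrix (Fin 2) (Fin 2) F) = !![0, -1; 1, 0] := by
  rw [Matrix.SpecialLinearGroup.coe_inv, coe_flipSL, Matrix.adjugate_fin_two_of]
  simp

theorem sl_det (M : SL(2, F)) :
    (M : Matrix (Fin 2) (Fin 2) F) 0 0 * (M : Matrix (Fin 2) (Fin 2) F) 1 1 -
      (M : Matrix (Fin 2) (Fin 2) F) 0 1 * (M : Matrix (Fin 2) (Fin 2) F) 1 0 = 1 := by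
  have h := M.2
  rwa [Matrix.det_fin_two] at h

theorem flip_comm_iff (M : SL(2, F)) : M * flipSL = flipSL * M ↔
    (M : Matrix (Fin 2) (Fin 2) F) 1 0 = -(M : Matrix (Fin 2) (Fin 2) F) 0 1 ∧
      (M : Matrix (Fin 2) (Fin 2) F) 1 1 = (M : Matrix (Fin 2) (Fin 2) F) 0 0 := by
  constructor
  · intro h
    have h' := congrArg (fun X : SL(2, F) => (X : Matrix (Fin 2) (Fin 2) F)) h
    simp only [Matrix.SpecialLinearGroup.coe_mul, coe_flipSL] at h'
    have e00 := congrFun (congrFun h' 0) 0
    have e01 := congrFun (congrFun h' 0) 1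
    simp [Matrix.mul_apply, Fin.sum_univ_two] at e00 e01
    exact ⟨e00.symm, e01.symm⟩
  · rintro ⟨h1, h2⟩
    apply Subtype.ext
    simp only [Matrix.SpecialLinearGroup.coe_mul, coe_flipSL]
    ext i j
    fin_cases i <;> fin_cases j <;> simp [Matrix.mul_apply, Fin.sum_univ_two, h1, h2]

theorem flip_anti_iff (M : SL(2, F)) : M * flipSL = flipSL⁻¹ * M ↔
    (M : Matrix (Fin 2) (Fin 2) F) 1 0 = (M : Matrix (Fin 2) (Fin 2) F) 0 1 ∧
      (M : Matrix (Fin 2) (Fin 2) F) 1 1 = -(M : Matrix (Fin 2) (Fin 2) F) 0 0 := by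
  constructor
  · intro h
    have h' := congrArg (fun X : SL(2, F) => (X : Matrix (Fin 2) (Fin 2) F)) h
    simp only [Matrix.SpecialLinearGroup.coe_mul, coe_flipSL, coe_flip_inv] at h'
    have e00 := congrFun (congrFun h' 0) 0
    have e01 := congrFun (congrFun h' 0) 1
    simp [Matrix.mul_apply, Fin.sum_univ_two] at e00 e01
    exact ⟨e00.symm, by linear_combination e01⟩
  · rintro ⟨h1, h2⟩
    apply Subtype.ext
    simp only [Matrix.SpecialLinearGroup.coe_mul, coe_flipSL, coe_flip_inv]
    ext i j
    fin_cases i <;> fin_cases j <;> simp [Matrix.mul_apply, Fin.sum_univ_two, h1, h2]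

/-- The pairs with a² + b² = c. -/
abbrev Circle (F : Type*) [Field F] (c : F) : Type _ := {x : F × F // x.1 ^ 2 + x.2 ^ 2 = c}

/-- The centraliser of the flip. -/
abbrev NT (F : Type*) [Field F] : Subgroup SL(2, F) := Subgroup.centralizer {flipSL}

/-- Coordinates on the centraliser of the flip. -/
def ntEquiv : ↥(NT F) ≃ Circle F 1 where
  toFun M := ⟨(((M : SL(2, F)) : Matrix (Fin 2) (Fin 2) F) 0 0, ((M : SL(2, F)) : Matrix (Fin 2) (Fin 2) F) 0 1), by
    obtain ⟨h1, h2⟩ := (flip_comm_iff M.1).1 (Subgroup.mem_centralizer_singleton_iff.1 M.2)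
    have h := sl_det M.1
    rw [h1, h2] at h
    linear_combination h⟩
  invFun x := ⟨⟨!![x.1.1, x.1.2; -x.1.2, x.1.1], by rw [Matrix.det_fin_two_of]; linear_combination x.2⟩,
    Subgroup.mem_centralizer_singleton_iff.2 ((flip_comm_iff _).2 ⟨by simp, by simp⟩)⟩
  left_inv M := by
    obtain ⟨h1, h2⟩ := (flip_comm_iff M.1).1 (Subgroup.mem_centralizer_singleton_iff.1 M.2)
    apply Subtype.ext
    apply Subtype.ext
    ext i j
    fin_cases i <;> fin_cases j <;> simp [h1, h2]
  right_inv x := by apply Subtype.ext; simp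

/-- Coordinates on the elements inverting the flip. -/
def antiEquiv : {M : SL(2, F) // M * flipSL = flipSL⁻¹ * M} ≃ Circle F (-1) where
  toFun M := ⟨((M.1 : Matrix (Fin 2) (Fin 2) F) 0 0, (M.1 : Matrix (Fin 2) (Fin 2) F) 0 1), by
    obtain ⟨h1, h2⟩ := (flip_anti_iff M.1).1 M.2
    have h := sl_det M.1
    rw [h1, h2] at h
    linear_combination -h⟩
  invFun x := ⟨⟨!![x.1.1, x.1.2; x.1.2, -x.1.1], by rw [Matrix.det_fin_two_of]; linear_combination -x.2⟩,
    (flip_anti_iff _).2 ⟨by simp, by simp⟩⟩
  left_inv M := by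
    obtain ⟨h1, h2⟩ := (flip_anti_iff M.1).1 M.2
    apply Subtype.ext
    apply Subtype.ext
    ext i j
    fin_cases i <;> fin_cases j <;> simp [h1, h2]
  right_inv x := by apply Subtype.ext; simp

variable [Fintype F] (hns : ∀ x : F, x * x ≠ -1)
include hns

omit [Fintype F] in
theorem two_ne_zero_of_ns : (2 : F) ≠ 0 := fun h => hns 1 (by linear_combination h)

theorem card_circle_one : Nat.card (Circle F 1) = Fintype.card F + 1 := by
  classical
  have h2 := two_ne_zero_of_ns hns
  have hd : ∀ t : F, 1 + t ^ 2 ≠ 0 := fun t h => hns t (by linear_combination h)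
  let f : Option F → Circle F 1 := fun o => o.elim ⟨(-1, 0), by ring⟩ fun t =>
    ⟨((1 - t ^ 2) / (1 + t ^ 2), 2 * t / (1 + t ^ 2)), by
      have := hd t
      field_simp
      ring⟩
  have hf : Function.Bijective f := by
    constructor
    · have hne : ∀ t : F, (1 - t ^ 2) / (1 + t ^ 2) ≠ -1 := fun t h => h2 (by
        rw [div_eq_iff (hd t)] at h; linear_combination h)
      rintro (_ | t) (_ | s) h
      · rfl
      · exact absurd (congrArg (fun x : Circle F 1 => x.1.1) h).symm (hne s)
      · exact absurd (congrArg (fun x : Circle F 1 => x.1.1) h) (hne t)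
      · have ha := congrArg (fun x : Circle F 1 => x.1.1) h
        have hb := congrArg (fun x : Circle F 1 => x.1.2) h
        have key : ∀ u : F, u * (1 + (1 - u ^ 2) / (1 + u ^ 2)) = 2 * u / (1 + u ^ 2) := fun u => by
          have := hd u
          field_simp
          ring
        have h3 : 1 + (1 - t ^ 2) / (1 + t ^ 2) ≠ 0 := fun e => hne t (by linear_combination e)
        refine congrArg some (mul_right_cancel₀ h3 ?_)
        calc t * (1 + (1 - t ^ 2) / (1 + t ^ 2)) = 2 * t / (1 + t ^ 2) := key t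
          _ = 2 * s / (1 + s ^ 2) := hb
          _ = s * (1 + (1 - s ^ 2) / (1 + s ^ 2)) := (key s).symm
          _ = _ := by rw [show (1 - s ^ 2) / (1 + s ^ 2) = (1 - t ^ 2) / (1 + t ^ 2) from ha.symm]
    · rintro ⟨⟨a, b⟩, h⟩
      by_cases ha : a = -1
      · subst ha
        refine ⟨none, Subtype.ext ?_⟩
        have : b = 0 := by simpa using h
        simp [f, this]
      · have h1 : 1 + a ≠ 0 := fun e => ha (eq_neg_of_add_eq_zero_right e)
        refine ⟨some (b / (1 + a)), Subtype.ext (Prod.ext ?_ ?_)⟩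
        · show (1 - (b / (1 + a)) ^ 2) / (1 + (b / (1 + a)) ^ 2) = a
          rw [div_eq_iff (hd _)]
          field_simp
          linear_combination (-(1 + a)) * h
        · show 2 * (b / (1 + a)) / (1 + (b / (1 + a)) ^ 2) = b
          rw [div_eq_iff (hd _)]
          field_simp
          linear_combination -b * h
  rw [← Nat.card_congr (Equiv.ofBijective f hf), Finite.card_option, Nat.card_eq_fintype_card]

theorem exists_circle (c : F) : Nonempty (Circle F c) := by
  have hodd : Fintype.card F % 2 = 1 := by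
    refine FiniteField.odd_card_of_char_ne_two fun h => two_ne_zero_of_ns hns ?_
    have := ringChar.Nat.cast_ringChar (R := F)
    rw [h] at this
    exact_mod_cast this
  obtain ⟨a, b, e⟩ := FiniteField.exists_root_sum_quadratic (f := (Polynomial.X ^ 2 : Polynomial F))
    (g := Polynomial.X ^ 2 - Polynomial.C c) (Polynomial.degree_X_pow 2)
    (Polynomial.degree_X_pow_sub_C (by norm_num) _) hodd
  exact ⟨⟨(a, b), by simp at e; linear_combination e⟩⟩

theorem card_circle_neg : Nat.card (Circle F (-1)) = Fintype.card F + 1 := by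
  obtain ⟨⟨⟨a, b⟩, h⟩⟩ := exists_circle hns (-1)
  rw [← card_circle_one hns]
  refine Nat.card_congr
    { toFun := fun x => ⟨(-(a * x.1.1 + b * x.1.2), -(a * x.1.2 - b * x.1.1)), by
        have hx := x.2
        linear_combination (x.1.1 ^ 2 + x.1.2 ^ 2) * h - hx⟩
      invFun := fun x => ⟨(a * x.1.1 - b * x.1.2, b * x.1.1 + a * x.1.2), by
        have hx := x.2
        linear_combination (x.1.1 ^ 2 + x.1.2 ^ 2) * h - hx⟩
      left_inv := fun x => ?_
      right_inv := fun x => ?_ }
  · apply Subtype.ext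
    apply Prod.ext
    · show a * -(a * x.1.1 + b * x.1.2) - b * -(a * x.1.2 - b * x.1.1) = x.1.1
      linear_combination -x.1.1 * h
    · show b * -(a * x.1.1 + b * x.1.2) + a * -(a * x.1.2 - b * x.1.1) = x.1.2
      linear_combination -x.1.2 * h
  · apply Subtype.ext
    apply Prod.ext
    · show -(a * (a * x.1.1 - b * x.1.2) + b * (b * x.1.1 + a * x.1.2)) = x.1.1
      linear_combination -x.1.1 * h
    · show -(a * (b * x.1.1 + a * x.1.2) - b * (a * x.1.1 - b * x.1.2)) = x.1.2
      linear_combination -x.1.2 * h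

theorem card_NT : Nat.card ↥(NT F) = Fintype.card F + 1 :=
  (Nat.card_congr ntEquiv).trans (card_circle_one hns)

theorem isCyclic_NT : IsCyclic ↥(NT F) := by
  classical
  obtain ⟨ι, hι⟩ := IsAlgClosed.exists_eq_mul_self (-1 : AlgebraicClosure F)
  let f := algebraMap F (AlgebraicClosure F)
  let val : ↥(NT F) → AlgebraicClosure F := fun M =>
    f (((M : SL(2, F)) : Matrix (Fin 2) (Fin 2) F) 0 0) + ι * f (((M : SL(2, F)) : Matrix (Fin 2) (Fin 2) F) 0 1)
  let Ψ : ↥(NT F) →* AlgebraicClosure F :=
    { toFun := val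
      map_one' := by simp [val]
      map_mul' := fun M N => by
        obtain ⟨h1, h2⟩ := (flip_comm_iff N.1).1 (Subgroup.mem_centralizer_singleton_iff.1 N.2)
        simp only [val, Subgroup.coe_mul, Matrix.SpecialLinearGroup.coe_mul, Matrix.mul_apply, Fin.sum_univ_two,
          h1, h2, map_add, map_mul, map_neg]
        linear_combination (f (((M : SL(2, F)) : Matrix (Fin 2) (Fin 2) F) 0 1) *
          f (((N : SL(2, F)) : Matrix (Fin 2) (Fin 2) F) 0 1)) * hι }
  refine isCyclic_of_injective_ringHom Ψ ((injective_iff_map_eq_one Ψ).2 fun M hM => ?_)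
  change val M = 1 at hM
  have hb : ((M : SL(2, F)) : Matrix (Fin 2) (Fin 2) F) 0 1 = 0 := by
    by_contra hb
    have hfb : f (((M : SL(2, F)) : Matrix (Fin 2) (Fin 2) F) 0 1) ≠ 0 := by
      rw [Ne, map_eq_zero]; exact hb
    refine hns ((1 - ((M : SL(2, F)) : Matrix (Fin 2) (Fin 2) F) 0 0) /
      ((M : SL(2, F)) : Matrix (Fin 2) (Fin 2) F) 0 1) (f.injective ?_)
    have hi : ι = (1 - f (((M : SL(2, F)) : Matrix (Fin 2) (Fin 2) F) 0 0)) /
        f (((M : SL(2, F)) : Matrix (Fin 2) (Fin 2) F) 0 1) := by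
      rw [eq_div_iff hfb]
      simp only [val] at hM
      linear_combination hM
    rw [map_mul, map_div₀, map_sub, map_one, ← hi, ← hι, map_neg, map_one]
  have ha : ((M : SL(2, F)) : Matrix (Fin 2) (Fin 2) F) 0 0 = 1 := f.injective (by
    simp only [val, hb, map_zero, mul_zero, add_zero] at hM
    rw [hM, map_one])
  exact ntEquiv.injective (Subtype.ext (by simp [ntEquiv, ha, hb]))

omit [Fintype F] in
theorem sq_eq_neg_one {M : SL(2, F)} (h : IsSgn (M * M)) (hM : ¬ IsSgn M) :
    (M : Matrix (Fin 2) (Fin 2) F) * (M : Matrix (Fin 2) (Fin 2) F) = -1 := by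
  rcases h with h | h
  · exfalso
    apply hM
    rw [Matrix.SpecialLinearGroup.coe_mul] at h
    have e00 := congrFun (congrFun h 0) 0
    have e01 := congrFun (congrFun h 0) 1
    have e10 := congrFun (congrFun h 1) 0
    have e11 := congrFun (congrFun h 1) 1
    simp [Matrix.mul_apply, Fin.sum_univ_two] at e00 e01 e10 e11
    have hd := sl_det M
    have h2 := two_ne_zero_of_ns hns
    generalize hA : (M : Matrix (Fin 2) (Fin 2) F) 0 0 = a at e00 e01 e10 hd
    generalize hB : (M : Matrix (Fin 2) (Fin 2) F) 0 1 = b at e00 e01 e10 e11 hd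
    generalize hC : (M : Matrix (Fin 2) (Fin 2) F) 1 0 = c at e00 e01 e10 e11 hd
    generalize hD : (M : Matrix (Fin 2) (Fin 2) F) 1 1 = d at e01 e10 e11 hd
    have hs : a + d ≠ 0 := fun hs => h2 (by linear_combination -e00 - hd + a * hs)
    have hb : b = 0 := by
      have : b * (a + d) = 0 := by linear_combination e01
      exact (mul_eq_zero.1 this).resolve_right hs
    have hc : c = 0 := by
      have : c * (a + d) = 0 := by linear_combination e10
      exact (mul_eq_zero.1 this).resolve_right hs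
    subst hb hc
    have hda : d = a := by linear_combination a * hd - d * e00
    rcases mul_self_eq_one_iff.1 (show a * a = 1 by linear_combination e00) with ha | ha
    · left; ext i j; fin_cases i <;> fin_cases j <;> simp [hA, hB, hC, hD, hda, ha]
    · right; ext i j; fin_cases i <;> fin_cases j <;> simp [hA, hB, hC, hD, hda, ha]
  · rw [← Matrix.SpecialLinearGroup.coe_mul]; exact h

theorem conj_flip {M : SL(2, F)} (h : (M : Matrix (Fin 2) (Fin 2) F) * (M : Matrix (Fin 2) (Fin 2) F) = -1) :
    ∃ g : SL(2, F), g⁻¹ * M * g = flipSL ∨ g⁻¹ * M * g = flipSL⁻¹ := by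
  classical
  set A := (M : Matrix (Fin 2) (Fin 2) F) with hA
  have e00 := congrFun (congrFun h 0) 0
  have e10 := congrFun (congrFun h 1) 0
  simp [Matrix.mul_apply, Fin.sum_univ_two] at e00 e10
  have hc : A 1 0 ≠ 0 := fun hc => hns (A 0 0) (by rw [hc] at e00; linear_combination e00)
  obtain ⟨a, ha⟩ : ∃ a : F, a * a * A 1 0 = 1 ∨ a * a * A 1 0 = -1 := by
    by_cases hs : IsSquare (A 1 0)
    · obtain ⟨r, hr⟩ := hs
      refine ⟨r⁻¹, Or.inl ?_⟩
      have : r ≠ 0 := fun e => hc (by rw [hr, e, mul_zero])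
      rw [hr]; field_simp
    · have h2 : ringChar F ≠ 2 := fun e => two_ne_zero_of_ns hns (by
        have := ringChar.Nat.cast_ringChar (R := F)
        rw [e] at this
        exact_mod_cast this)
      obtain ⟨r, hr⟩ : IsSquare (-A 1 0) := by
        have hn1 : ¬ IsSquare (-1 : F) := fun ⟨x, hx⟩ => hns x hx.symm
        rw [FiniteField.isSquare_iff h2 (neg_ne_zero.2 hc), neg_pow]
        have h1 := FiniteField.pow_dichotomy h2 hc
        have h1' := FiniteField.pow_dichotomy h2 (neg_ne_zero.2 (one_ne_zero (α := F)))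
        rw [FiniteField.isSquare_iff h2 hc] at hs
        rw [FiniteField.isSquare_iff h2 (neg_ne_zero.2 one_ne_zero)] at hn1
        rw [h1.resolve_left hs, h1'.resolve_left hn1]
        ring
      refine ⟨r⁻¹, Or.inr ?_⟩
      have : r ≠ 0 := fun e => hc (neg_eq_zero.1 (by rw [hr, e, mul_zero]))
      rw [show A 1 0 = -(r * r) by rw [← hr, neg_neg]]; field_simp
  rcases ha with ha | ha
  · obtain ⟨g, hg⟩ : ∃ g : SL(2, F), (g : Matrix (Fin 2) (Fin 2) F) = !![a, a * A 0 0; 0, a * A 1 0] :=
      ⟨⟨_, by rw [Matrix.det_fin_two_of]; linear_combination ha⟩, rfl⟩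
    refine ⟨g, Or.inr ?_⟩
    rw [mul_assoc, inv_mul_eq_iff_eq_mul]
    apply Subtype.ext
    simp only [Matrix.SpecialLinearGroup.coe_mul, coe_flip_inv, hg]
    ext i j
    fin_cases i <;> fin_cases j <;> simp [Matrix.mul_apply, Fin.sum_univ_two, ← hA] <;>
      first
        | ring1
        | linear_combination a * e00
        | linear_combination a * e10
  · obtain ⟨g, hg⟩ : ∃ g : SL(2, F), (g : Matrix (Fin 2) (Fin 2) F) = !![a, -(a * A 0 0); 0, -(a * A 1 0)] :=
      ⟨⟨_, by rw [Matrix.det_fin_two_of]; linear_combination -ha⟩, rfl⟩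
    refine ⟨g, Or.inl ?_⟩
    rw [mul_assoc, inv_mul_eq_iff_eq_mul]
    apply Subtype.ext
    simp only [Matrix.SpecialLinearGroup.coe_mul, coe_flipSL, hg]
    ext i j
    fin_cases i <;> fin_cases j <;> simp [Matrix.mul_apply, Fin.sum_univ_two, ← hA] <;>
      first
        | ring1
        | linear_combination -a * e00
        | linear_combination -a * e10

omit [Fintype F] in
/-- An element commuting up to sign with a non-central element of the non-split torus that is not of order 4
lies in that torus. -/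
theorem mem_NT_of_comm {y M : SL(2, F)} (hy : y ∈ NT F)
    (ha : (y : Matrix (Fin 2) (Fin 2) F) 0 0 ≠ 0) (hb : (y : Matrix (Fin 2) (Fin 2) F) 0 1 ≠ 0)
    (h : IsSgn (M * y * M⁻¹ * y⁻¹)) : M ∈ NT F := by
  obtain ⟨y1, y2⟩ := (flip_comm_iff y).1 (Subgroup.mem_centralizer_singleton_iff.1 hy)
  have h2 := two_ne_zero_of_ns hns
  have hMy : (M : Matrix (Fin 2) (Fin 2) F) * y = (y : Matrix (Fin 2) (Fin 2) F) * M ∨
      (M : Matrix (Fin 2) (Fin 2) F) * y = -((y : Matrix (Fin 2) (Fin 2) F) * M) := by
    have key : (M : Matrix (Fin 2) (Fin 2) F) * y =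
        ((M * y * M⁻¹ * y⁻¹ : SL(2, F)) : Matrix (Fin 2) (Fin 2) F) * ((y : Matrix (Fin 2) (Fin 2) F) * M) := by
      have e : M * y = M * y * M⁻¹ * y⁻¹ * (y * M) := by group
      rw [← Matrix.SpecialLinearGroup.coe_mul, ← Matrix.SpecialLinearGroup.coe_mul,
        ← Matrix.SpecialLinearGroup.coe_mul]
      exact congrArg Subtype.val e
    rcases h with h | h
    · left; rw [key, h, one_mul]
    · right; rw [key, h, neg_one_mul]
  set A := (M : Matrix (Fin 2) (Fin 2) F) with hA
  refine Subgroup.mem_centralizer_singleton_iff.2 ((flip_comm_iff M).2 ?_)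
  rcases hMy with e | e
  · have e00 := congrFun (congrFun e 0) 0
    have e01 := congrFun (congrFun e 0) 1
    simp [Matrix.mul_apply, Fin.sum_univ_two, y1, y2] at e00 e01
    constructor
    · exact mul_left_cancel₀ hb (by linear_combination -e00)
    · exact mul_left_cancel₀ hb (by linear_combination -e01)
  · exfalso
    have e00 := congrFun (congrFun e 0) 0
    have e01 := congrFun (congrFun e 0) 1
    have e10 := congrFun (congrFun e 1) 0
    have e11 := congrFun (congrFun e 1) 1
    simp [Matrix.mul_apply, Fin.sum_univ_two, y1, y2] at e00 e01 e10 e11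
    have hy1 := sl_det y
    rw [y1, y2] at hy1
    have hs : A 0 0 + A 1 1 = 0 := (mul_eq_zero.1 (show (2 : F) * (A 0 0 + A 1 1) = 0 by
      linear_combination (y : Matrix (Fin 2) (Fin 2) F) 0 0 * (e00 + e11) +
        (y : Matrix (Fin 2) (Fin 2) F) 0 1 * (e01 - e10) - 2 * (A 0 0 + A 1 1) * hy1)).resolve_left h2
    have hb0 : A 0 1 = 0 := (mul_eq_zero.1 (show (2 * (y : Matrix (Fin 2) (Fin 2) F) 0 0) * A 0 1 = 0 by
      linear_combination e01 - (y : Matrix (Fin 2) (Fin 2) F) 0 1 * hs)).resolve_left (mul_ne_zero h2 ha)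
    have hc0 : A 1 0 = 0 := (mul_eq_zero.1 (show (2 * (y : Matrix (Fin 2) (Fin 2) F) 0 0) * A 1 0 = 0 by
      linear_combination e10 + (y : Matrix (Fin 2) (Fin 2) F) 0 1 * hs)).resolve_left (mul_ne_zero h2 ha)
    have hd := sl_det M
    rw [← hA, hb0] at hd
    have hA0 : A 0 0 = 0 := (mul_eq_zero.1 (show (2 * (y : Matrix (Fin 2) (Fin 2) F) 0 0) * A 0 0 = 0 by
      linear_combination e00 + (y : Matrix (Fin 2) (Fin 2) F) 0 1 * hb0 -
        (y : Matrix (Fin 2) (Fin 2) F) 0 1 * hc0)).resolve_left (mul_ne_zero h2 ha)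
    rw [hA0] at hd
    simp at hd

/-- The orders modulo the centre. -/
theorem trichotomy {q : ℕ} (hq : Fintype.card F = q) (M : SL(2, F)) :
    IsSgn (M ^ ringChar F) ∨ IsSgn (M ^ ((q - 1) / 2)) ∨ IsSgn (M ^ ((q + 1) / 2)) := by
  classical
  set p := ringChar F with hp
  haveI : CharP F p := ringChar.charP F
  haveI : Fact p.Prime := ⟨CharP.char_is_prime F p⟩
  have h2 : p ≠ 2 := fun e => two_ne_zero_of_ns hns (by
    have := CharP.cast_eq_zero F p
    rw [e] at this
    exact_mod_cast this)
  have hodd : Fintype.card F % 2 = 1 := FiniteField.odd_card_of_char_ne_two h2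
  let f := algebraMap F (AlgebraicClosure F)
  set A := (M : Matrix (Fin 2) (Fin 2) F) with hA
  have hcay : A * A = (A 0 0 + A 1 1) • A - 1 := by
    have hd := sl_det M
    ext i j
    fin_cases i <;> fin_cases j <;> simp [Matrix.mul_apply, Fin.sum_univ_two, ← hA] <;>
      first
        | linear_combination -hd
        | ring
  obtain ⟨t, ht⟩ : ∃ t, t = A 0 0 + A 1 1 := ⟨_, rfl⟩
  rw [← ht] at hcay
  obtain ⟨l, hl⟩ : ∃ l : AlgebraicClosure F, l * l - f t * l + 1 = 0 := by
    obtain ⟨r, hr⟩ := IsAlgClosed.exists_root (Polynomial.X ^ 2 - Polynomial.C (f t) * Polynomial.X + Polynomial.C (1 : AlgebraicClosure F))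
      (by
        have : (Polynomial.X ^ 2 - Polynomial.C (f t) * Polynomial.X + Polynomial.C (1 : AlgebraicClosure F)).degree = 2 := by
          compute_degree!
        rw [this]; norm_num)
    exact ⟨r, by simpa [sq] using hr⟩
  have hl0 : l ≠ 0 := fun e => by rw [e] at hl; simp at hl
  have hmu : (f t - l) * l = 1 := by linear_combination -hl
  haveI : CharP (AlgebraicClosure F) p := charP_of_injective_algebraMap f.injective p
  haveI : ExpChar (AlgebraicClosure F) p := ExpChar.prime Fact.out
  set B := A.map f with hB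
  have hBcay : B * B = f t • B - 1 := by
    rw [hB, ← Matrix.map_mul, hcay]
    ext i j
    by_cases hij : i = j
    · subst hij; simp
    · simp [Matrix.one_apply_ne hij]
  have hcoe : ∀ (N : ℕ) (z : F), B ^ N = f z • (1 : Matrix (Fin 2) (Fin 2) (AlgebraicClosure F)) →
      (z = 1 ∨ z = -1) → IsSgn (M ^ N) := by
    intro N z hN hz
    have h1 : (A ^ N).map f = (z • (1 : Matrix (Fin 2) (Fin 2) F)).map f := by
      have : (A ^ N).map f = B ^ N := by
        rw [hB]; exact map_pow f.mapMatrix A N
      rw [this, hN]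
      ext i j
      by_cases hij : i = j
      · subst hij; simp
      · simp [Matrix.one_apply_ne hij]
    have h3 : A ^ N = z • (1 : Matrix (Fin 2) (Fin 2) F) := Matrix.map_injective f.injective h1
    rw [IsSgn, Matrix.SpecialLinearGroup.coe_pow, ← hA, h3]
    rcases hz with rfl | rfl
    · left; simp
    · right; simp
  by_cases hdist : f t - l = l
  · left
    have hll : l * l = 1 := by linear_combination hmu - l * hdist
    have hsq : (B - l • (1 : Matrix (Fin 2) (Fin 2) (AlgebraicClosure F))) ^ 2 = 0 := by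
      have hfl : f t = 2 * l := by linear_combination hdist
      rw [pow_two, sub_mul, mul_sub, mul_sub, hBcay, hfl]
      simp only [Matrix.mul_smul, Matrix.smul_mul, mul_one, one_mul, smul_smul]
      ext i j
      by_cases hij : i = j
      · subst hij
        simp only [Matrix.sub_apply, Matrix.smul_apply, Matrix.one_apply_eq, smul_eq_mul, Matrix.zero_apply]
        linear_combination hll
      · simp only [Matrix.sub_apply, Matrix.smul_apply, Matrix.one_apply_ne hij, smul_eq_mul, Matrix.zero_apply]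
        ring
    have hBp : B ^ p = l ^ p • (1 : Matrix (Fin 2) (Fin 2) (AlgebraicClosure F)) := by
      haveI : CharP (Matrix (Fin 2) (Fin 2) (AlgebraicClosure F)) p := inferInstance
      have h := sub_pow_char_of_commute (R := Matrix (Fin 2) (Fin 2) (AlgebraicClosure F)) p
        ((Commute.one_right B).smul_right l)
      rw [pow_eq_zero_of_le (Fact.out : p.Prime).two_le hsq, smul_pow, one_pow] at h
      exact sub_eq_zero.1 h.symm
    have hlp : (l ^ p) = 1 ∨ (l ^ p) = -1 := by
      rcases mul_self_eq_one_iff.1 hll with e | e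
      · left; rw [e, one_pow]
      · right; rw [e, ((Fact.out : p.Prime).odd_of_ne_two h2).neg_one_pow]
    rcases hlp with e | e
    · exact hcoe p 1 (by rw [hBp, e, map_one]) (Or.inl rfl)
    · exact hcoe p (-1) (by rw [hBp, e, map_neg, map_one]) (Or.inr rfl)
  · right
    have key : ∀ N z, (z = 1 ∨ z = -1) → l ^ N = f z → IsSgn (M ^ N) := by
      intro N z hz hN
      refine hcoe N z ?_ hz
      have hmN : (f t - l) ^ N = f z := by
        have : f z * f z = 1 := by rcases hz with rfl | rfl <;> simp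
        have h1 : (f t - l) ^ N * l ^ N = 1 := by rw [← mul_pow, hmu, one_pow]
        rw [hN] at h1
        calc (f t - l) ^ N = (f t - l) ^ N * (f z * f z) := by rw [this, mul_one]
          _ = (f t - l) ^ N * f z * f z := by ring
          _ = f z := by rw [h1, one_mul]
      have hpow : ∀ n : ℕ, (l - (f t - l)) • B ^ n = (l ^ n - (f t - l) ^ n) • B -
          ((f t - l) * l ^ n - l * (f t - l) ^ n) • (1 : Matrix (Fin 2) (Fin 2) (AlgebraicClosure F)) := by
        intro n
        induction n with
        | zero => simp [pow_zero, sub_smul]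
        | succ n ih =>
          rw [pow_succ, ← Matrix.smul_mul, ih, sub_mul, Matrix.smul_mul, Matrix.smul_mul, hBcay, one_mul]
          ext i j
          by_cases hij : i = j
          · subst hij
            simp only [Matrix.sub_apply, Matrix.smul_apply, Matrix.one_apply_eq, smul_eq_mul]
            linear_combination (l ^ n - (f t - l) ^ n) * hmu
          · simp only [Matrix.sub_apply, Matrix.smul_apply, Matrix.one_apply_ne hij, smul_eq_mul]
            ring
      have hN' := hpow N
      rw [hN, hmN, sub_self, zero_smul, zero_sub, ← sub_mul, ← neg_smul, neg_mul_eq_neg_mul, neg_sub,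
        ← smul_smul] at hN'
      exact smul_right_injective _ (sub_ne_zero.2 (fun e => hdist e.symm)) hN'
    have hq' : ∀ x : F, x ^ q = x := fun x => by rw [← hq]; exact FiniteField.pow_card x
    have hfr : l ^ q * l ^ q - f t * l ^ q + 1 = 0 := by
      obtain ⟨n, -, hn⟩ := FiniteField.card F p
      have hfrob : ∀ x y : AlgebraicClosure F, (x + y) ^ q = x ^ q + y ^ q := fun x y => by
        rw [← hq, hn]; exact add_pow_char_pow x y p n
      have hsub : ∀ x y : AlgebraicClosure F, (x - y) ^ q = x ^ q - y ^ q := fun x y => by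
        rw [← hq, hn]; exact sub_pow_char_pow x y (n : ℕ)
      have h := congrArg (fun x => x ^ q) hl
      simp only [hfrob, hsub, mul_pow, one_pow, zero_pow (show q ≠ 0 by omega)] at h
      rwa [← map_pow, hq'] at h
    have hcases : l ^ q = l ∨ l ^ q = f t - l := by
      have : (l ^ q - l) * (l ^ q - (f t - l)) = 0 := by linear_combination hfr - hl
      rcases mul_eq_zero.1 this with h | h
      · exact Or.inl (sub_eq_zero.1 h)
      · exact Or.inr (sub_eq_zero.1 h)
    have half : ∀ N, l ^ (N + N) = 1 → IsSgn (M ^ N) := fun N h => by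
      rw [pow_add] at h
      rcases mul_self_eq_one_iff.1 h with e | e
      · exact key N 1 (Or.inl rfl) (by rw [e, map_one])
      · exact key N (-1) (Or.inr rfl) (by rw [e, map_neg, map_one])
    rcases hcases with h | h
    · left
      refine half _ ?_
      rw [show (q - 1) / 2 + (q - 1) / 2 = q - 1 by omega, pow_sub₀ _ hl0 (by omega), h, pow_one,
        mul_inv_cancel₀ hl0]
    · right
      refine half _ ?_
      rw [show (q + 1) / 2 + (q + 1) / 2 = q + 1 by omega, pow_succ, h, hmu]

end Cfsg.Agent.ReeTori
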