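/-
The homomorphism from SL₂(q) into the small Ree group given by a long and a short root.
-/
import Cfsg.Agent.Lib.Twisted.ReeTori.Borel
import Cfsg.Agent.Lib.Chev.SL2

set_option autoImplicit false

namespace Cfsg.Agent.ReeTori

open Cfsg.Lie Matrix Chev BNSetup Twisted.Ree
open scoped MatrixGroups

variable {F : Type*} [Field F] [CharP F 3] {m : ℕ}

theorem comm_pairs : TrivPair 8 10 ∧ TrivPair 8 1 ∧ TrivPair 3 10 ∧ TrivPair 3 1 :=
  ⟨⟨by decide, by decide, by decide, by decide, by decide +kernel⟩,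
    ⟨by decide, by decide, by decide, by decide, by decide +kernel⟩,
    ⟨by decide, by decide, by decide, by decide, by decide +kernel⟩,
    ⟨by decide, by decide, by decide, by decide, by decide +kernel⟩⟩

theorem exists_sl2Map (m : ℕ) : ∃ φ : SL(2, F) →* RG F m,
    (∀ t : F, ((φ (upperSL t) : RG F m) : GL chevG2.Idx F) = uW m 0 t 0) ∧
    (∀ t : F, ((φ (lowerSL t) : RG F m) : GL chevG2.Idx F) = vW m 0 (-t) 0) := by
  classical
  haveI : ExpChar F 3 := ExpChar.prime Nat.prime_three
  obtain ⟨f8, a8, b8⟩ := good.exists_sl2_hom (F := F) (r := 8) (by decide)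
  obtain ⟨f10, a10, b10⟩ := good.exists_sl2_hom (F := F) (r := 10) (by decide)
  have hxg : ∀ r, r < 12 → ∀ t : F, xg chevG2 F r t = xe good r t := fun r _ t =>
    Units.ext (by rw [good.coe_xg, coe_xe])
  have A8 : ∀ t, f8 (upperSL t) = xe good 8 t := fun t => (a8 t).trans (hxg 8 (by decide) t)
  have B8 : ∀ t, f8 (lowerSL t) = xe good 3 t := fun t => (b8 t).trans (hxg 3 (by decide) t)
  have A10 : ∀ t, f10 (upperSL t) = xe good 10 t := fun t => (a10 t).trans (hxg 10 (by decide) t)
  have B10 : ∀ t, f10 (lowerSL t) = xe good 1 t := fun t => (b10 t).trans (hxg 1 (by decide) t)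
  have hflip : (flipSL : SL(2, F)) = upperSL 1 * lowerSL (-1) * upperSL 1 := by
    apply Subtype.ext
    simp only [Matrix.SpecialLinearGroup.coe_mul]
    ext i j
    fin_cases i <;> fin_cases j <;>
      simp [coe_lowerSL, coe_upperSL, coe_flipSL, Matrix.mul_apply, Fin.sum_univ_two]
  have gen : ∀ (K : Subgroup (SL(2, F))), (∀ t, upperSL t ∈ K) → (∀ t, lowerSL t ∈ K) → ∀ g, g ∈ K := by
    intro K h1 h2 g
    refine (Subgroup.closure_le K).2 ?_ (eq_upper_torus_lower g)
    rintro _ (⟨t, rfl⟩ | rfl)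
    · exact h1 t
    · rw [hflip]; exact K.mul_mem (K.mul_mem (h1 1) (h2 (-1))) (h1 1)
  obtain ⟨p1, p2, p3, p4⟩ := comm_pairs
  have hcomm : ∀ a b, Commute (f8 a) (f10 b) := by
    have h1 : ∀ b, (∀ t, Commute (f8 (upperSL t)) (f10 b)) ∧ ∀ t, Commute (f8 (lowerSL t)) (f10 b) := by
      intro b
      refine gen (Subgroup.centralizer (f8 '' (Set.range upperSL ∪ Set.range lowerSL)) |>.comap f10) ?_ ?_ b
        |> fun h => ⟨fun t => (Subgroup.mem_centralizer_iff.1 h _ ⟨_, Or.inl ⟨t, rfl⟩, rfl⟩),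
          fun t => (Subgroup.mem_centralizer_iff.1 h _ ⟨_, Or.inr ⟨t, rfl⟩, rfl⟩)⟩ <;>
      · intro t
        rw [Subgroup.mem_comap, Subgroup.mem_centralizer_iff]
        rintro _ ⟨_, (⟨s, rfl⟩ | ⟨s, rfl⟩), rfl⟩ <;> simp only [A8, B8, A10, B10]
        · first
            | exact (commute_of_trivPair p1 s t).symm.eq
            | exact (commute_of_trivPair p2 s t).symm.eq
        · first
            | exact (commute_of_trivPair p3 s t).symm.eq
            | exact (commute_of_trivPair p4 s t).symm.eq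
    intro a b
    refine (gen (Subgroup.centralizer {f10 b} |>.comap f8) (fun t => ?_) (fun t => ?_) a |> fun h =>
      (Subgroup.mem_centralizer_singleton_iff.1 h))
    · exact Subgroup.mem_centralizer_singleton_iff.2 ((h1 b).1 t).eq
    · exact Subgroup.mem_centralizer_singleton_iff.2 ((h1 b).2 t).eq
  let fr : SL(2, F) →* SL(2, F) := Matrix.SpecialLinearGroup.map (iterateFrobenius F 3 m)
  have hfu : ∀ t, fr (upperSL t) = upperSL (t ^ 3 ^ m) := fun t => by
    apply Subtype.ext
    show ((upperSL t : SL(2, F)) : Matrix (Fin 2) (Fin 2) F).map (iterateFrobenius F 3 m) = _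
    ext i j
    fin_cases i <;> fin_cases j <;> simp [coe_upperSL, iterateFrobenius_def]
  have hfl : ∀ t, fr (lowerSL t) = lowerSL (t ^ 3 ^ m) := fun t => by
    apply Subtype.ext
    show ((lowerSL t : SL(2, F)) : Matrix (Fin 2) (Fin 2) F).map (iterateFrobenius F 3 m) = _
    ext i j
    fin_cases i <;> fin_cases j <;> simp [coe_lowerSL, iterateFrobenius_def]
  let Φ : SL(2, F) →* GL chevG2.Idx F :=
    { toFun := fun g => f8 (fr g) * f10 g
      map_one' := by simp
      map_mul' := fun a b => by simp only [map_mul]; exact (hcomm (fr b) a).mul_mul_mul_comm _ _ }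
  have hup : ∀ t, Φ (upperSL t) = uW m 0 t 0 := fun t => by
    show f8 (fr (upperSL t)) * f10 (upperSL t) = _
    rw [hfu, A8, A10]
    simp [uW, uOf, tail, xe_zero good (r := 7) (by decide), xe_zero good (r := 6) (by decide),
      xe_zero good (r := 9) (by decide), xe_zero good (r := 11) (by decide)]
  have hlo : ∀ t, Φ (lowerSL t) = vW m 0 (-t) 0 := fun t => by
    show f8 (fr (lowerSL t)) * f10 (lowerSL t) = _
    rw [hfl, B8, B10]
    have hU : uW m 0 (-t) 0 = xe good 8 ((-t) ^ 3 ^ m) * xe good 10 (-t) := by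
      simp [uW, uOf, tail, xe_zero good (r := 7) (by decide), xe_zero good (r := 6) (by decide),
        xe_zero good (r := 9) (by decide), xe_zero good (r := 11) (by decide)]
    rw [vW, hU, ← conj_mul, n0_conj_xe (by decide), n0_conj_xe (by decide), neg_neg,
      (Odd.pow (by decide) : Odd (3 ^ m)).neg_pow, neg_neg]
  have hmem : ∀ g, Φ g ∈ G1 F m := gen ((G1 F m).comap Φ)
    (fun t => by rw [Subgroup.mem_comap, hup]; exact uW_mem_G1 _ _ _ _)
    (fun t => by rw [Subgroup.mem_comap, hlo]; exact vW_mem_G1 _ _ _ _)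
  exact ⟨Φ.codRestrict (G1 F m) hmem, hup, hlo⟩

/-- The homomorphism SL₂(q) → ²G₂(q). -/
noncomputable def sl2Map (F : Type*) [Field F] [CharP F 3] (m : ℕ) : SL(2, F) →* RG F m :=
  (exists_sl2Map m).choose

theorem sl2Map_upper (t : F) : ((sl2Map F m (upperSL t) : RG F m) : GL chevG2.Idx F) = uW m 0 t 0 :=
  (exists_sl2Map (F := F) m).choose_spec.1 t

theorem sl2Map_lower (t : F) : ((sl2Map F m (lowerSL t) : RG F m) : GL chevG2.Idx F) = vW m 0 (-t) 0 :=
  (exists_sl2Map (F := F) m).choose_spec.2 t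

end Cfsg.Agent.ReeTori
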