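/-
The centraliser of an involution of the small Ree group is Z₂ × PSL₂(q), and all involutions are conjugate.
-/
import Cfsg.Agent.Lib.Twisted.ReeTori.SL2Map
import Cfsg.Agent.Lib.Twisted.ReeTori.SL2Facts
import Cfsg.Agent.Lib.Twisted.ReeTori.InvolWords
import Cfsg.Agent.Lib.PSL2.Basic

set_option autoImplicit false

namespace Cfsg.Agent.ReeTori

open Cfsg.Lie Matrix Chev BNSetup Twisted Twisted.Ree
open scoped MatrixGroups

variable {F : Type*} [Field F] {m : ℕ}

section flip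

variable [CharP F 3]

theorem uW_short (x : F) : uW m 0 x 0 = xe good 8 (x ^ 3 ^ m) * xe good 10 x := by
  simp [uW, uOf, tail, xe_zero good (r := 7) (by decide), xe_zero good (r := 6) (by decide),
    xe_zero good (r := 9) (by decide), xe_zero good (r := 11) (by decide)]

theorem sl2Map_flip : sl2Map F m flipSL = nG F m := by
  have hflip : (flipSL : SL(2, F)) = upperSL 1 * lowerSL (-1) * upperSL 1 := by
    apply Subtype.ext
    simp only [Matrix.SpecialLinearGroup.coe_mul]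
    ext i j
    fin_cases i <;> fin_cases j <;>
      simp [coe_lowerSL, coe_upperSL, coe_flipSL, Matrix.mul_apply, Fin.sum_univ_two]
  apply Subtype.ext
  rw [hflip, map_mul, map_mul, Subgroup.coe_mul, Subgroup.coe_mul, sl2Map_upper, sl2Map_lower, neg_neg]
  show _ = n0 F
  rw [n0_eq_ne', ne'_pair_eq, vW, uW_short, one_pow, ← conj_mul, n0_conj_xe (by decide), n0_conj_xe (by decide),
    inv_one]

theorem sl2Map_neg_one {M : SL(2, F)} (h : (M : Matrix (Fin 2) (Fin 2) F) = -1) : sl2Map F m M = 1 := by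
  have e : M = flipSL * flipSL := Subtype.ext (by rw [h, coe_flip_sq])
  rw [e, map_mul, sl2Map_flip, nG_mul_self]

theorem sl2Map_sgn {M : SL(2, F)} (h : IsSgn M) : sl2Map F m M = 1 := by
  rcases h with h | h
  · rw [show M = 1 from Subtype.ext h, map_one]
  · exact sl2Map_neg_one h

end flip

variable [Fintype F] [CharP F 3] (hK : Fintype.card F = 3 ^ (2 * m + 1))
include hK

omit [CharP F 3] in
theorem no_sqrt_neg_one : ∀ x : F, x * x ≠ -1 := fun x hx => by
  have h8 := (rr_pow (m := m)).2.2.1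
  refine FiniteField.isSquare_neg_one_iff.1 ⟨x, hx.symm⟩ ?_
  rw [hK]
  show qq m % 4 = 3
  revert h8
  generalize qq m = Q
  omega

theorem comm_HH {a b : RG F m} (ha : a ∈ HH F m) (hb : b ∈ HH F m) : a * b = b * a := by
  haveI := isCyclic_HH (F := F) (m := m) hK
  letI := IsCyclic.commGroup (α := ↥(HH F m))
  exact congrArg Subtype.val (mul_comm (⟨a, ha⟩ : ↥(HH F m)) ⟨b, hb⟩)

omit [Fintype F] [CharP F 3] hK in
theorem UU_HH_trivial {z : RG F m} (h1 : z ∈ HH F m) (h2 : z ∈ UU F m) : z = 1 :=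
  UU_free h2 ((two_point z).2 h1).2

theorem sl2Map_upper_CU (t : F) : sl2Map F m (upperSL t) ∈ CU hK := by
  have hU : sl2Map F m (upperSL t) ∈ UU F m := mem_UU.2 (by rw [sl2Map_upper]; exact uW_mem_U1 m _ _ _)
  exact (mem_CU hK).2 ⟨hU, (comm_kk_iff hK hU).2 ⟨t, sl2Map_upper t⟩⟩

theorem exists_upper {u : RG F m} (hu : u ∈ CU hK) : ∃ t, sl2Map F m (upperSL t) = u := by
  obtain ⟨x, e⟩ := (comm_kk_iff hK ((mem_CU hK).1 hu).1).1 ((mem_CU hK).1 hu).2
  exact ⟨x, Subtype.ext ((sl2Map_upper x).trans e.symm)⟩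

omit [Fintype F] hK in
theorem sl2Map_upper_inj {s t : F} (h : sl2Map F m (upperSL s) = sl2Map F m (upperSL t)) : s = t :=
  (uW_inj (((sl2Map_upper s).symm.trans (congrArg Subtype.val h)).trans (sl2Map_upper t))).2.1

omit [Fintype F] hK in
theorem upperSL_zero : upperSL (0 : F) = 1 := by
  apply Subtype.ext
  rw [coe_upperSL, Matrix.SpecialLinearGroup.coe_one, Matrix.one_fin_two]

theorem sl2Map_mem_cent (M : SL(2, F)) : sl2Map F m M ∈ Subgroup.centralizer {kk hK} := by
  refine (Subgroup.closure_le ((Subgroup.centralizer {kk hK}).comap (sl2Map F m))).2 ?_ (eq_upper_torus_lower M)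
  rintro _ (⟨t, rfl⟩ | rfl)
  · exact Subgroup.mem_centralizer_singleton_iff.2 ((mem_CU hK).1 (sl2Map_upper_CU hK t)).2
  · show sl2Map F m flipSL ∈ Subgroup.centralizer {kk hK}
    rw [sl2Map_flip]
    exact Subgroup.mem_centralizer_singleton_iff.2 (nG_comm_kk hK)

theorem sl2Map_comm (M : SL(2, F)) : sl2Map F m M * kk hK = kk hK * sl2Map F m M :=
  Subgroup.mem_centralizer_singleton_iff.1 (sl2Map_mem_cent hK M)

theorem sl2Map_torus_mem {s : F} (hs : s ≠ 0) : sl2Map F m (torusSL s) ∈ HH F m := by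
  have key : ∀ a : F, a ≠ 0 → sl2Map F m (torusSL a) • pInf F m = pInf F m := by
    intro a ha
    by_contra h
    obtain ⟨w, hw, e⟩ := exists_pt hK _ h
    have hfix : sl2Map F m (upperSL (a * a * 1)) • (sl2Map F m (torusSL a) • pInf F m) =
        sl2Map F m (torusSL a) • pInf F m := by
      rw [smul_smul, ← map_mul, ← sl2Rels_SL.conj a 1 ha, map_mul, mul_smul,
        B1_fix (UU_le_B1 ((mem_CU hK).1 (sl2Map_upper_CU hK 1)).1)]
    rw [← e] at hfix
    have h1 : (w⁻¹ * sl2Map F m (upperSL (a * a * 1)) * w) • pO F m = pO F m := by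
      rw [mul_smul, mul_smul, hfix, inv_smul_smul]
    have h2 := UU_free (mul_mem (mul_mem (inv_mem hw) ((mem_CU hK).1 (sl2Map_upper_CU hK _)).1) hw) h1
    have h3 : sl2Map F m (upperSL (a * a * 1)) = sl2Map F m (upperSL 0) := by
      rw [upperSL_zero, map_one]
      have := congrArg (fun z => w * z * w⁻¹) h2
      simpa [mul_assoc] using this
    exact ha (mul_self_eq_zero.1 (by simpa using sl2Map_upper_inj h3))
  refine (two_point _).1 ⟨key s hs, ?_⟩
  have e : torusSL s * flipSL = flipSL * torusSL s⁻¹ := by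
    rw [sl2Rels_SL.nH s⁻¹ (inv_ne_zero hs), inv_inv]
  rw [← nG_pInf, smul_smul, ← sl2Map_flip, ← map_mul, e, map_mul, mul_smul, key _ (inv_ne_zero hs)]

omit [Fintype F] [CharP F 3] hK in
theorem sl_cases (M : SL(2, F)) :
    (∃ a x : F, a ≠ 0 ∧ M = torusSL a * upperSL x) ∨
      ∃ x s y : F, s ≠ 0 ∧ M = upperSL x * torusSL s * flipSL * upperSL y := by
  have h := sl2Rels_SL (F := F)
  rcases h.normalForm (eq_upper_torus_lower M) with ⟨α, a, ha, rfl⟩ | ⟨α, s, β, hs, rfl⟩
  · refine Or.inl ⟨a, α * (a * a)⁻¹, ha, ?_⟩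
    rw [h.conj a _ ha]; congr 2; field_simp
  · exact Or.inr ⟨α, s, β, hs, rfl⟩

theorem sgn_of_HH {M : SL(2, F)} (h1 : sl2Map F m M ∈ HH F m)
    (h2 : sl2Map F m M * sl2Map F m (upperSL 1) = sl2Map F m (upperSL 1) * sl2Map F m M) : IsSgn M := by
  rcases sl_cases M with ⟨a, x, ha, rfl⟩ | ⟨x, s, y, hs, rfl⟩
  · rw [map_mul] at h1
    have hx : sl2Map F m (upperSL x) = sl2Map F m (upperSL 0) := by
      rw [upperSL_zero, map_one]
      refine UU_HH_trivial ?_ ((mem_CU hK).1 (sl2Map_upper_CU hK x)).1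
      have := mul_mem (inv_mem (sl2Map_torus_mem hK ha)) h1
      rwa [inv_mul_cancel_left] at this
    obtain rfl := sl2Map_upper_inj hx
    rw [upperSL_zero, mul_one] at h2 ⊢
    rw [← map_mul, sl2Rels_SL.conj a 1 ha, mul_one, map_mul, mul_left_inj] at h2
    have h3 := sl2Map_upper_inj h2
    rcases mul_self_eq_one_iff.1 h3 with rfl | rfl
    · left; rw [coe_torusSL ha, inv_one, Matrix.one_fin_two]
    · right; rw [coe_torusSL ha, Matrix.one_fin_two]; ext i j; fin_cases i <;> fin_cases j <;> simp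
  · exfalso
    have h := ((two_point _).2 h1).1
    rw [map_mul, map_mul, map_mul, sl2Map_flip, mul_smul, mul_smul, mul_smul,
      B1_fix (UU_le_B1 ((mem_CU hK).1 (sl2Map_upper_CU hK y)).1), nG_pInf,
      ((two_point _).2 (sl2Map_torus_mem hK hs)).2] at h
    have h' : (sl2Map F m (upperSL x))⁻¹ • pInf F m = pInf F m :=
      B1_fix (UU_le_B1 (inv_mem ((mem_CU hK).1 (sl2Map_upper_CU hK x)).1))
    exact pInf_ne_pO (h'.symm.trans (inv_smul_eq_iff.2 h.symm))

/-- The kernel of the map from SL₂. -/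
theorem sl2Map_eq_one_iff {M : SL(2, F)} : sl2Map F m M = 1 ↔ IsSgn M :=
  ⟨fun h => sgn_of_HH hK (by rw [h]; exact one_mem _) (by rw [h, one_mul, mul_one]), sl2Map_sgn⟩

theorem sl2Map_ne_kk (M : SL(2, F)) : sl2Map F m M ≠ kk hK := by
  intro h
  refine (kk_spec hK).2.2.2 (h ▸ sl2Map_sgn (sgn_of_HH hK ?_ ?_))
  · rw [h]; exact (kk_spec hK).1
  · rw [h]; exact (sl2Map_comm hK _).symm

theorem card_cent_kk_inf_B1 : Nat.card ↥(Subgroup.centralizer {kk hK} ⊓ B1 F m) = qq m * (qq m - 1) := by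
  classical
  let f : ↥(CU hK) × ↥(HH F m) → ↥(Subgroup.centralizer {kk hK} ⊓ B1 F m) := fun p =>
    ⟨(p.1 : RG F m) * p.2, ⟨mul_mem (Subgroup.mem_inf.1 p.1.2).2
      (Subgroup.mem_centralizer_singleton_iff.2 (comm_HH hK p.2.2 (kk_spec hK).1)),
      mul_mem (UU_le_B1 ((mem_CU hK).1 p.1.2).1) (HH_le_B1 p.2.2)⟩⟩
  have hf : Function.Bijective f := by
    constructor
    · rintro ⟨a, b⟩ ⟨c, d⟩ h
      have h' : (a : RG F m) * b = c * d := congrArg Subtype.val h
      have h1 : (c : RG F m)⁻¹ * a = d * (b : RG F m)⁻¹ := by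
        rw [eq_mul_inv_iff_mul_eq, mul_assoc, h', inv_mul_cancel_left]
      have h2 := UU_HH_trivial (h1 ▸ mul_mem d.2 (inv_mem b.2) : (c : RG F m)⁻¹ * a ∈ HH F m)
        (mul_mem (inv_mem ((mem_CU hK).1 c.2).1) ((mem_CU hK).1 a.2).1)
      rw [h2] at h1
      exact Prod.ext (Subtype.ext (inv_mul_eq_one.1 h2).symm) (Subtype.ext (mul_inv_eq_one.1 h1.symm).symm)
    · rintro ⟨b, hb1, hb2⟩
      obtain ⟨u, hu, k, hk, rfl⟩ := exists_UH hK hb2
      refine ⟨(⟨u, (mem_CU hK).2 ⟨hu, ?_⟩⟩, ⟨k, hk⟩), rfl⟩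
      have hk' : k ∈ Subgroup.centralizer {kk hK} :=
        Subgroup.mem_centralizer_singleton_iff.2 (comm_HH hK hk (kk_spec hK).1)
      have := Subgroup.mul_mem _ hb1 (inv_mem hk')
      rw [mul_inv_cancel_right] at this
      exact Subgroup.mem_centralizer_singleton_iff.1 this
  rw [← Nat.card_congr (Equiv.ofBijective f hf), Nat.card_prod, card_CU hK, card_HH hK]

theorem card_cent_kk : Nat.card ↥(Subgroup.centralizer {kk hK}) = qq m * (qq m - 1) * (qq m + 1) := by
  classical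
  set C := Subgroup.centralizer {kk hK} with hC
  obtain ⟨k1, -, -, -⟩ := kk_spec hK
  have hf := ((two_point (kk hK)).2 k1).1
  have horb : MulAction.orbit ↥C (pInf F m) = {x | kk hK • x = x} := by
    ext x
    constructor
    · rintro ⟨⟨g, hg⟩, rfl⟩
      show kk hK • g • pInf F m = g • pInf F m
      rw [smul_smul, ← Subgroup.mem_centralizer_singleton_iff.1 hg, mul_smul, hf]
    · intro hx
      rcases (fixed_kk hK).1 hx with rfl | ⟨u, hu, rfl⟩
      · exact MulAction.mem_orbit_self _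
      · refine ⟨⟨u * nG F m, mul_mem (Subgroup.mem_inf.1 hu).2
          (Subgroup.mem_centralizer_singleton_iff.2 (nG_comm_kk hK))⟩, ?_⟩
        show (u * nG F m) • pInf F m = _
        rw [mul_smul, nG_pInf]
  have hst : Nat.card ↥(MulAction.stabilizer ↥C (pInf F m)) = qq m * (qq m - 1) := by
    rw [← card_cent_kk_inf_B1 hK]
    refine Nat.card_congr
      { toFun := fun x => ⟨(x : ↥C), ⟨x.1.2,
          (SetLike.ext_iff.1 (stab_pInf (F := F) (m := m)) _).1
            (MulAction.mem_stabilizer_iff.2 (MulAction.mem_stabilizer_iff.1 x.2 :))⟩⟩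
        invFun := fun x => ⟨⟨x, x.2.1⟩, MulAction.mem_stabilizer_iff.2 (B1_fix x.2.2)⟩
        left_inv := fun x => rfl
        right_inv := fun x => rfl }
  rw [← Subgroup.index_mul_card (MulAction.stabilizer ↥C (pInf F m)), MulAction.index_stabilizer, horb, hst,
    ← Nat.card_coe_set_eq, show Nat.card {x : Pt F m | kk hK • x = x} = qq m + 1 from card_fixed_kk hK]
  ring

/-- The map Z₂ × PSL₂(q) → C(kk). -/
theorem exists_cent_iso :
    Nonempty (↥(Subgroup.centralizer {kk hK}) ≃* Multiplicative (ZMod 2) × Matrix.ProjectiveSpecialLinearGroup (Fin 2) F) := by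
  classical
  obtain ⟨-, -, k3, k4⟩ := kk_spec hK
  have h2 := two_ne_zero_of_ns (no_sqrt_neg_one hK)
  have hsgn : ∀ M : SL(2, F), IsSgn M ↔ (M = 1 ∨ M = -1) := fun M => by
    constructor
    · rintro (h | h)
      · exact Or.inl (Subtype.ext h)
      · exact Or.inr (Subtype.ext (by rw [h]; rfl))
    · rintro (rfl | rfl)
      · exact Or.inl rfl
      · exact Or.inr rfl
  let g : PSL(2, F) →* RG F m := QuotientGroup.lift _ (sl2Map F m) fun M hM =>
    sl2Map_sgn ((hsgn M).2 (PSL2.mem_center_iff_pm.1 hM))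
  have hg : ∀ x, g x * kk hK = kk hK * g x := fun x => by
    induction x using QuotientGroup.induction_on with
    | H M => exact sl2Map_comm hK M
  have hginj : Function.Injective g := by
    refine (injective_iff_map_eq_one g).2 fun x hx => ?_
    induction x using QuotientGroup.induction_on with
    | H M => exact (QuotientGroup.eq_one_iff M).2 (PSL2.mem_center_iff_pm.2 ((hsgn M).1 ((sl2Map_eq_one_iff hK).1 hx)))
  have hgk : ∀ x, g x ≠ kk hK := fun x => by
    induction x using QuotientGroup.induction_on with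
    | H M => exact sl2Map_ne_kk hK M
  let p : Multiplicative (ZMod 2) → RG F m := fun i => if i = 1 then 1 else kk hK
  have hz : ∀ i : Multiplicative (ZMod 2), i = 1 ∨ i = Multiplicative.ofAdd 1 := by decide
  have hne : Multiplicative.ofAdd (1 : ZMod 2) ≠ 1 := by decide
  have hsq : Multiplicative.ofAdd (1 : ZMod 2) * Multiplicative.ofAdd 1 = 1 := by decide
  have hp : ∀ i j, p (i * j) = p i * p j := fun i j => by
    rcases hz i with rfl | rfl <;> rcases hz j with rfl | rfl <;> simp [p, hne, hsq, k3]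
  have hpc : ∀ i x, g x * p i = p i * g x := fun i x => by
    rcases hz i with rfl | rfl <;> simp [p, hne, hg]
  let Ψ : Multiplicative (ZMod 2) × PSL(2, F) →* RG F m :=
    { toFun := fun z => p z.1 * g z.2
      map_one' := by simp [p]
      map_mul' := fun a b => by
        show p (a.1 * b.1) * g (a.2 * b.2) = p a.1 * g a.2 * (p b.1 * g b.2)
        rw [hp, map_mul, mul_assoc, mul_assoc, ← mul_assoc (p b.1), ← hpc, mul_assoc] }
  have hmem : ∀ z, Ψ z ∈ Subgroup.centralizer {kk hK} := fun z => by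
    refine mul_mem ?_ (Subgroup.mem_centralizer_singleton_iff.2 (hg z.2))
    rcases hz z.1 with h | h <;> simp [p, h, hne, Subgroup.mem_centralizer_singleton_iff]
  have hinj : Function.Injective Ψ := by
    refine (injective_iff_map_eq_one Ψ).2 fun z hz1 => ?_
    obtain ⟨i, x⟩ := z
    change p i * g x = 1 at hz1
    rcases hz i with rfl | rfl
    · simp [p] at hz1
      rw [hginj (hz1.trans (map_one g).symm)]
      rfl
    · exfalso
      simp [p, hne] at hz1
      exact hgk x ((eq_inv_of_mul_eq_one_right hz1).trans (kk_inv hK))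
  let Ψ' := Ψ.codRestrict (Subgroup.centralizer {kk hK}) hmem
  have hinj' : Function.Injective Ψ' := fun a b h => hinj (congrArg Subtype.val h)
  refine ⟨(MulEquiv.ofBijective Ψ' ((Nat.bijective_iff_injective_and_card Ψ').2 ⟨hinj', ?_⟩)).symm⟩
  rw [Nat.card_prod, Nat.card_zmod 2 |> (Nat.card_congr Multiplicative.toAdd).trans, PSL2.two_mul_card_PSL h2,
    card_cent_kk hK, hK, mul_assoc]
  congr 1
  rw [mul_comm (qq m - 1)]
  simpa using Nat.sq_sub_sq (qq m) 1

/-- A subgroup of order 8 is a Sylow subgroup. -/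
theorem card_sylow_two (S : Sylow 2 (RG F m)) : Nat.card S = 8 := by
  rw [S.card_eq_multiplicity, card_eq_eight_mul_odd hK]
  norm_num

theorem conj_kk_of_fix {x : RG F m} (hx : x * x = 1) (hx1 : x ≠ 1) {pt : Pt F m} (hp : x • pt = pt) :
    ∃ g : RG F m, g * x * g⁻¹ = kk hK := by
  obtain ⟨a, rfl⟩ := QuotientGroup.mk_surjective pt
  have hb : a⁻¹ * x * a ∈ B1 F m :=
    mem_B1.2 ((mem_stab_coset x a).1 (MulAction.mem_stabilizer_iff.2 hp))
  have hsq : ∀ g : RG F m, g * (a⁻¹ * x * a) * g⁻¹ * (g * (a⁻¹ * x * a) * g⁻¹) = 1 := fun g => by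
    calc _ = g * a⁻¹ * (x * x) * a * g⁻¹ := by group
      _ = 1 := by rw [hx]; group
  rcases classify_B1 hK hb with h | ⟨g, -, hgH, hsqU⟩ | ⟨g, -, c, hc, e⟩
  · exfalso
    apply hx1
    have h9 := pow_nine hK h
    have h2 : (a⁻¹ * x * a) ^ 2 = 1 := by rw [sq]; simpa using hsq 1
    have h1 : a⁻¹ * x * a = 1 := by
      rw [show (9 : ℕ) = 2 * 4 + 1 from rfl, pow_succ, pow_mul, h2, one_pow, one_mul] at h9
      exact h9
    calc x = a * (a⁻¹ * x * a) * a⁻¹ := by group
      _ = 1 := by rw [h1]; group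
  · exfalso
    exact hsqU (by rw [show a⁻¹ * x * a * (a⁻¹ * x * a) = 1 by simpa using hsq 1]; exact one_mem _)
  · refine ⟨g * a⁻¹, ?_⟩
    have h := hsq g
    rw [e] at h
    have hcc := ((mem_CU hK).1 hc).2
    have hc2 : c * c = 1 := by
      rw [mul_assoc, ← mul_assoc c, hcc, mul_assoc (kk hK), ← mul_assoc, (kk_spec hK).2.2.1, one_mul] at h
      exact h
    have hc1 : c = 1 := by
      have h3 := pow_three_CU hK hc
      rwa [pow_succ, sq, hc2, one_mul] at h3
    rw [hc1, mul_one] at e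
    rw [← e]; group

/-- Every involution is conjugate to kk, and the Sylow 2-subgroups are elementary. -/
theorem sylow_two_elementary (S : Sylow 2 (RG F m)) : ∀ x ∈ S, x * x = 1 ∧ (x ≠ 1 → ∃ g : RG F m, g * x * g⁻¹ = kk hK) := by
  classical
  obtain ⟨T, -, hTp, hT8, hT⟩ := exists_eight hK
  let T' : Sylow 2 (RG F m) := Sylow.ofCard T (by rw [hT8, card_eq_eight_mul_odd hK]; norm_num)
  intro x hx
  obtain ⟨g, hg⟩ := MulAction.exists_smul_eq (RG F m) T' S
  rw [← hg] at hx
  have hx' : x ∈ ((T' : Subgroup (RG F m)).map (MulAut.conj g).toMonoidHom) := hx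
  obtain ⟨t, ht, rfl⟩ := hx'
  have ht' : t ∈ T := by simpa [T'] using ht
  show g * t * g⁻¹ * (g * t * g⁻¹) = 1 ∧ (g * t * g⁻¹ ≠ 1 → _)
  by_cases h1 : t = 1
  · simp [h1]
  obtain ⟨h2, pt, hpt⟩ := hT t ht' h1
  refine ⟨by rw [show g * t * g⁻¹ * (g * t * g⁻¹) = g * (t * t) * g⁻¹ by group, h2]; group, fun _ => ?_⟩
  obtain ⟨a, ha⟩ := conj_kk_of_fix hK h2 h1 hpt
  refine ⟨a * g⁻¹, ?_⟩
  show a * g⁻¹ * (g * t * g⁻¹) * (a * g⁻¹)⁻¹ = _
  rw [← ha]; group

/-- All involutions are conjugate. -/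
theorem exists_conj_kk {x : RG F m} (hx : x * x = 1) (hx1 : x ≠ 1) : ∃ g : RG F m, g * x * g⁻¹ = kk hK := by
  haveI := Fact.mk Nat.prime_two
  have hp : IsPGroup 2 ↥(Subgroup.zpowers x) := by
    intro y
    refine ⟨1, ?_⟩
    obtain ⟨k, hk⟩ := Subgroup.mem_zpowers_iff.1 y.2
    apply Subtype.ext
    rw [Subgroup.coe_pow, ← hk, pow_one, sq, ← _root_.zpow_add, ← two_mul, _root_.zpow_mul, _root_.zpow_two, hx, _root_.one_zpow,
      Subgroup.coe_one]
  obtain ⟨S, hS⟩ := hp.exists_le_sylow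
  exact (sylow_two_elementary hK S x (hS (Subgroup.mem_zpowers x))).2 hx1

end Cfsg.Agent.ReeTori
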