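/-
Arbitrarily large groups with the element orders of the cube of the small Ree group: the module is a power of
M₂(q), on which SL₂(q) acts by g·w = g w σ(g)⁻¹ with σ the cubing automorphism, extended by the scalar -1.
-/
import Cfsg.Agent.Lib.Twisted.ReeTori.Orders
import Mathlib.FieldTheory.Finite.GaloisField

set_option autoImplicit false

namespace Cfsg.Agent.ReeTori.Cube

open Matrix Chev
open scoped MatrixGroups

variable {F : Type} [Field F] [CharP F 3]

/-- The cubing automorphism on SL₂. -/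
noncomputable def tw (F : Type) [Field F] [CharP F 3] : SL(2, F) →* SL(2, F) :=
  haveI : ExpChar F 3 := ExpChar.prime Nat.prime_three
  Matrix.SpecialLinearGroup.map (frobenius F 3)

theorem coe_tw (M : SL(2, F)) (i j : Fin 2) :
    ((tw F M : SL(2, F)) : Matrix (Fin 2) (Fin 2) F) i j = (M : Matrix (Fin 2) (Fin 2) F) i j ^ 3 := rfl

theorem tw_trace (M : SL(2, F)) :
    ((tw F M : SL(2, F)) : Matrix (Fin 2) (Fin 2) F) 0 0 + ((tw F M : SL(2, F)) : Matrix (Fin 2) (Fin 2) F) 1 1 =
      ((M : Matrix (Fin 2) (Fin 2) F) 0 0 + (M : Matrix (Fin 2) (Fin 2) F) 1 1) ^ 3 := by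
  haveI : ExpChar F 3 := ExpChar.prime Nat.prime_three
  rw [coe_tw, coe_tw, add_pow_char]

theorem cayley (M : SL(2, F)) : (M : Matrix (Fin 2) (Fin 2) F) * M =
    ((M : Matrix (Fin 2) (Fin 2) F) 0 0 + (M : Matrix (Fin 2) (Fin 2) F) 1 1) • (M : Matrix (Fin 2) (Fin 2) F) - 1 := by
  have hd := sl_det M
  ext i j
  fin_cases i <;> fin_cases j <;> simp [Matrix.mul_apply, Fin.sum_univ_two] <;>
    first
      | linear_combination -hd
      | ring1

variable (k : ℕ)

/-- The module. -/
abbrev W (F : Type) (k : ℕ) : Type := Fin k → Matrix (Fin 2) (Fin 2) F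

/-- The action of a pair (sign, element of SL₂). -/
noncomputable def act (p : ℤˣ × SL(2, F)) (w : Matrix (Fin 2) (Fin 2) F) : Matrix (Fin 2) (Fin 2) F :=
  ((p.1 : ℤ) : F) • ((p.2 : Matrix (Fin 2) (Fin 2) F) * w * ((tw F p.2⁻¹ : SL(2, F)) : Matrix (Fin 2) (Fin 2) F))

theorem act_one (w : Matrix (Fin 2) (Fin 2) F) : act (1 : ℤˣ × SL(2, F)) w = w := by
  simp [act]

theorem act_mul (p r : ℤˣ × SL(2, F)) (w : Matrix (Fin 2) (Fin 2) F) : act (p * r) w = act p (act r w) := by
  simp only [act, Prod.fst_mul, Prod.snd_mul, _root_.mul_inv_rev, map_mul, Matrix.SpecialLinearGroup.coe_mul,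
    Units.val_mul, Int.cast_mul, Matrix.mul_smul, Matrix.smul_mul, smul_smul, Matrix.mul_assoc]

theorem act_add (p : ℤˣ × SL(2, F)) (v w : Matrix (Fin 2) (Fin 2) F) : act p (v + w) = act p v + act p w := by
  simp [act, Matrix.mul_add, Matrix.add_mul, smul_add]

/-- The representation. -/
noncomputable def chi : ℤˣ × SL(2, F) →* MulAut (Multiplicative (W F k)) where
  toFun p := AddEquiv.toMultiplicative
    { toFun := fun w i => act p (w i)
      invFun := fun w i => act p⁻¹ (w i)
      left_inv := fun w => funext fun i => by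
        show act p⁻¹ (act p (w i)) = w i
        rw [← act_mul, inv_mul_cancel, act_one]
      right_inv := fun w => funext fun i => by
        show act p (act p⁻¹ (w i)) = w i
        rw [← act_mul, mul_inv_cancel, act_one]
      map_add' := fun v w => funext fun i => act_add p (v i) (w i) }
  map_one' := MulEquiv.ext fun w => Multiplicative.toAdd.injective (funext fun i => act_one _)
  map_mul' p r := MulEquiv.ext fun w => Multiplicative.toAdd.injective (funext fun i => act_mul p r _)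

theorem chi_apply (p : ℤˣ × SL(2, F)) (w : Multiplicative (W F k)) (i : Fin k) :
    Multiplicative.toAdd (chi k p w) i = act p (Multiplicative.toAdd w i) := rfl

/-- The acting group. -/
noncomputable abbrev Gb (F : Type) [Field F] [CharP F 3] (k : ℕ) : Subgroup (MulAut (Multiplicative (W F k))) := (chi (F := F) k).range

/-- The group X. -/
noncomputable abbrev XX (F : Type) [Field F] [CharP F 3] (k : ℕ) : Type :=
  SemidirectProduct (Multiplicative (W F k)) ↥(Gb F k) (Gb F k).subtype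

theorem trivial_iff {k : ℕ} (hk : 0 < k) (h2 : (2 : F) ≠ 0) (p : ℤˣ × SL(2, F)) :
    chi k p = 1 ↔ p.1 = 1 ∧ IsSgn p.2 := by
  obtain ⟨s, M⟩ := p
  constructor
  · intro h
    have hact : ∀ w, act (s, M) w = w := fun w =>
      congrFun (congrArg Multiplicative.toAdd (DFunLike.congr_fun h (Multiplicative.ofAdd fun _ => w))) ⟨0, hk⟩
    have hs : ((s : ℤ) : F) * ((s : ℤ) : F) = 1 := by
      rcases Int.units_eq_one_or s with rfl | rfl <;> simp
    have key : ∀ w, ((s : ℤ) : F) • ((M : Matrix (Fin 2) (Fin 2) F) * w) =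
        w * ((tw F M : SL(2, F)) : Matrix (Fin 2) (Fin 2) F) := fun w => by
      conv_rhs => rw [← hact w]
      rw [act, Matrix.smul_mul, Matrix.mul_assoc, ← Matrix.SpecialLinearGroup.coe_mul, ← map_mul, inv_mul_cancel,
        map_one, Matrix.SpecialLinearGroup.coe_one, mul_one]
    have hT : ((s : ℤ) : F) • (M : Matrix (Fin 2) (Fin 2) F) = ((tw F M : SL(2, F)) : Matrix (Fin 2) (Fin 2) F) := by
      simpa using key 1
    have hc : ∀ w, (M : Matrix (Fin 2) (Fin 2) F) * w = w * (M : Matrix (Fin 2) (Fin 2) F) := fun w => by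
      have e := key w
      rw [← hT, Matrix.mul_smul] at e
      have e' := congrArg (fun z => ((s : ℤ) : F) • z) e
      simp only [smul_smul, hs, one_smul] at e'
      exact e'
    have e01 := congrFun (congrFun (hc !![0, 1; 0, 0]) 0) 1
    have e00 := congrFun (congrFun (hc !![0, 1; 0, 0]) 0) 0
    have f00 := congrFun (congrFun (hc !![0, 0; 1, 0]) 0) 0
    simp [Matrix.mul_apply, Fin.sum_univ_two] at e01 e00 f00
    have c0 : (M : Matrix (Fin 2) (Fin 2) F) 1 0 = 0 := e00.symm
    have b0 : (M : Matrix (Fin 2) (Fin 2) F) 0 1 = 0 := f00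
    have d0 : (M : Matrix (Fin 2) (Fin 2) F) 1 1 = (M : Matrix (Fin 2) (Fin 2) F) 0 0 := e01.symm
    have hd := sl_det M
    rw [b0, c0, d0] at hd
    have ha : (M : Matrix (Fin 2) (Fin 2) F) 0 0 = 1 ∨ (M : Matrix (Fin 2) (Fin 2) F) 0 0 = -1 :=
      mul_self_eq_one_iff.1 (by linear_combination hd)
    have h00 : ((s : ℤ) : F) * (M : Matrix (Fin 2) (Fin 2) F) 0 0 = (M : Matrix (Fin 2) (Fin 2) F) 0 0 ^ 3 := by
      have e := congrFun (congrFun hT 0) 0
      rw [coe_tw] at e
      simpa using e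
    refine ⟨?_, ?_⟩
    · rcases Int.units_eq_one_or s with rfl | rfl
      · rfl
      · exfalso
        rcases ha with ha | ha <;> rw [ha] at h00 <;> simp at h00
        · exact h2 (by linear_combination -h00)
        · exact h2 (by linear_combination h00)
    · rcases ha with ha | ha
      · left; ext i j; fin_cases i <;> fin_cases j <;> simp [b0, c0, d0, ha]
      · right; ext i j; fin_cases i <;> fin_cases j <;> simp [b0, c0, d0, ha]
  · rintro ⟨hs, hM⟩
    simp only at hs
    subst hs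
    have h1 : ∀ w, act ((1 : ℤˣ), M) w = w := by
      intro w
      haveI : ExpChar F 3 := ExpChar.prime Nat.prime_three
      rcases hM with h | h
      · rw [show M = 1 from Subtype.ext h]; exact act_one w
      · have hM' : M = -1 := Subtype.ext (by rw [h]; rfl)
        have ht : ((tw F M⁻¹ : SL(2, F)) : Matrix (Fin 2) (Fin 2) F) = -1 := by
          rw [hM', show ((-1 : SL(2, F))⁻¹) = -1 from inv_eq_of_mul_eq_one_right (by simp)]
          ext i j
          rw [coe_tw]
          by_cases hij : i = j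
          · subst hij; simp; ring
          · simp [Matrix.one_apply_ne hij]
        show ((((1 : ℤˣ) : ℤ)) : F) • ((M : Matrix (Fin 2) (Fin 2) F) * w * _) = w
        rw [ht, h]
        simp
    exact MulEquiv.ext fun w => Multiplicative.toAdd.injective (funext fun i => h1 _)

/-- A fixed vector forces order dividing 2 or 3. -/
theorem fixed_vector (hns : ∀ x : F, x * x ≠ -1) {k : ℕ} (hk : 0 < k) (p : ℤˣ × SL(2, F))
    {w : Multiplicative (W F k)} (hw : w ≠ 1) (h : chi k p w = w) : chi k (p ^ 2) = 1 ∨ chi k (p ^ 3) = 1 := by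
  have h2 := two_ne_zero_of_ns' hns
  obtain ⟨s, M⟩ := p
  obtain ⟨i, hi⟩ : ∃ i, Multiplicative.toAdd w i ≠ 0 := by
    by_contra hc
    push Not at hc
    exact hw (Multiplicative.toAdd.injective (funext hc))
  set v := Multiplicative.toAdd w i with hv
  have hfix : act (s, M) v = v := congrFun (congrArg Multiplicative.toAdd h) i
  set σ := ((s : ℤ) : F) with hσ
  have hs : σ * σ = 1 := by
    rcases Int.units_eq_one_or s with rfl | rfl <;> simp [hσ]
  set A := (M : Matrix (Fin 2) (Fin 2) F) with hA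
  set B := ((tw F M : SL(2, F)) : Matrix (Fin 2) (Fin 2) F) with hB
  have key : σ • (A * v) = v * B := by
    conv_rhs => rw [← hfix]
    rw [act, Matrix.smul_mul, Matrix.mul_assoc, hB, ← Matrix.SpecialLinearGroup.coe_mul, ← map_mul, inv_mul_cancel,
      map_one, Matrix.SpecialLinearGroup.coe_one, mul_one]
  have hAv : A * v = σ • (v * B) := by rw [← key, smul_smul, hs, one_smul]
  set t := A 0 0 + A 1 1 with ht
  have hcA : A * A = t • A - 1 := cayley M
  have hcB : B * B = t ^ 3 • B - 1 := by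
    rw [ht, hA, ← tw_trace, hB]
    exact cayley (tw F M)
  have hvB : (t ^ 3 - σ * t) • (v * B) = 0 := by
    have e1 : A * A * v = v * (B * B) := by
      rw [Matrix.mul_assoc, hAv, Matrix.mul_smul, ← Matrix.mul_assoc A v B, hAv, Matrix.smul_mul, smul_smul, hs, one_smul,
        Matrix.mul_assoc]
    rw [hcA, hcB, Matrix.sub_mul, Matrix.mul_sub, Matrix.one_mul, Matrix.mul_one, Matrix.smul_mul, Matrix.mul_smul, hAv,
      smul_smul, sub_left_inj] at e1
    rw [sub_smul, ← e1, mul_comm σ t, sub_self]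
  have hvB0 : v * B ≠ 0 := by
    intro e
    apply hi
    have e2 := congrArg (fun z => z * ((tw F M⁻¹ : SL(2, F)) : Matrix (Fin 2) (Fin 2) F)) e
    simp only [Matrix.mul_assoc, hB, ← Matrix.SpecialLinearGroup.coe_mul, ← map_mul, mul_inv_cancel, map_one,
      Matrix.SpecialLinearGroup.coe_one, mul_one, Matrix.zero_mul] at e2
    exact e2
  have ht3 : t * (t * t - σ) = 0 := by
    have := (smul_eq_zero.1 hvB).resolve_right hvB0
    linear_combination this
  have hs2 : s ^ 2 = 1 := Int.units_sq s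
  rcases mul_eq_zero.1 ht3 with h0 | h0
  · refine Or.inl ((trivial_iff hk h2 _).2 ⟨hs2, Or.inr ?_⟩)
    show ((M ^ 2 : SL(2, F)) : Matrix (Fin 2) (Fin 2) F) = -1
    rw [sq, Matrix.SpecialLinearGroup.coe_mul, ← hA, hcA, h0, zero_smul, zero_sub]
  · have hs1 : s = 1 := by
      rcases Int.units_eq_one_or s with e | e
      · exact e
      · exfalso
        refine hns t ?_
        rw [hσ, e] at h0
        simp at h0
        linear_combination h0
    subst hs1
    have ht1 : t * t = 1 := by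
      simp [hσ] at h0
      linear_combination h0
    refine Or.inr ((trivial_iff hk h2 _).2 ⟨one_pow 3, ?_⟩)
    have hM3 : ((M ^ 3 : SL(2, F)) : Matrix (Fin 2) (Fin 2) F) = (-t) • (1 : Matrix (Fin 2) (Fin 2) F) := by
      rw [Matrix.SpecialLinearGroup.coe_pow, ← hA, pow_succ, sq, hcA, Matrix.sub_mul, Matrix.smul_mul, hcA, smul_sub,
        smul_smul, ht1, one_smul, Matrix.one_mul, sub_right_comm, sub_self, zero_sub, neg_smul]
    rcases mul_self_eq_one_iff.1 ht1 with e | e
    · right; show ((M ^ 3 : SL(2, F)) : Matrix (Fin 2) (Fin 2) F) = -1; rw [hM3, e, neg_smul, one_smul]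
    · left; show ((M ^ 3 : SL(2, F)) : Matrix (Fin 2) (Fin 2) F) = 1; rw [hM3, e, neg_neg, one_smul]
where
  two_ne_zero_of_ns' (hns : ∀ x : F, x * x ≠ -1) : (2 : F) ≠ 0 := fun h => hns 1 (by linear_combination h)

/-- The small set of orders. -/
def Small (m d : ℕ) : Prop := d ∣ 6 ∨ d ∣ 9 ∨ d ∣ qq m - 1 ∨ d ∣ 2 * aa m

theorem pow_three_inl (k : ℕ) (v : Multiplicative (W F k)) : v ^ 3 = 1 := by
  refine Multiplicative.toAdd.injective (funext fun i => ?_)
  rw [toAdd_pow, Pi.smul_apply]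
  ext a b
  have h3 : ((3 : ℕ) : F) = 0 := CharP.cast_eq_zero F 3
  rw [Matrix.smul_apply, nsmul_eq_mul, h3, zero_mul]
  rfl

variable [Fintype F] {m : ℕ}

theorem orders_small (hF : Fintype.card F = 3 ^ (2 * m + 1)) {k : ℕ} (hk : 0 < k) (x : XX F k) :
    Small m (orderOf x) := by
  classical
  have hns := no_sqrt_neg_one hF
  have h2 := fixed_vector.two_ne_zero_of_ns' hns
  obtain ⟨h, hh⟩ := x.right.2
  obtain ⟨s, M⟩ := h
  have hq8 := (rr_pow (m := m)).2.2.1
  have h4 := four_aa m
  -- an exponent killing the image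
  obtain ⟨n, hn, hn'⟩ : ∃ n, (∀ d, d ∣ n → Small m d) ∧ chi k ((s, M) ^ n) = 1 := by
    have hev : ∀ n, Even n → s ^ n = 1 := fun n ⟨j, hj⟩ => by
      rw [hj, ← two_mul, pow_mul, Int.units_sq, one_pow]
    have hsg : ∀ N n, IsSgn (M ^ N) → N ∣ n → IsSgn (M ^ n) := fun N n h hd => by
      obtain ⟨j, rfl⟩ := hd
      rw [pow_mul]
      rcases h with h | h
      · left; rw [Matrix.SpecialLinearGroup.coe_pow, h, one_pow]
      · rw [IsSgn, Matrix.SpecialLinearGroup.coe_pow, h]; exact neg_one_pow_eq_or _ j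
    have hp : ringChar F = 3 := ringChar.eq F 3
    rcases trichotomy hns hF M with e | e | e
    · rw [hp] at e
      exact ⟨6, fun d hd => Or.inl hd, (trivial_iff hk h2 _).2 ⟨hev 6 ⟨3, rfl⟩, hsg 3 6 e (by norm_num)⟩⟩
    · refine ⟨qq m - 1, fun d hd => Or.inr (Or.inr (Or.inl hd)),
        (trivial_iff hk h2 _).2 ⟨hev _ ⟨(qq m - 1) / 2, by omega⟩, hsg _ _ e ⟨2, ?_⟩⟩⟩
      show qq m - 1 = (qq m - 1) / 2 * 2
      omega
    · refine ⟨2 * aa m, fun d hd => Or.inr (Or.inr (Or.inr hd)),
        (trivial_iff hk h2 _).2 ⟨hev _ (even_two_mul _), hsg _ _ e ⟨1, ?_⟩⟩⟩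
      show 2 * aa m = (qq m + 1) / 2 * 1
      omega
  have hr : ∀ j : ℕ, ((x ^ j).right : MulAut (Multiplicative (W F k))) = chi k ((s, M) ^ j) := fun j => by
    rw [map_pow, hh]
    have : (x ^ j).right = x.right ^ j := map_pow (SemidirectProduct.rightHom) x j
    rw [this, Subgroup.coe_pow]
  have hl : ∀ j : ℕ, (x ^ j).right = 1 → x ^ j = SemidirectProduct.inl (x ^ j).left := fun j hj =>
    SemidirectProduct.ext rfl hj
  have h6 : ∀ j : ℕ, chi k ((s, M) ^ j) = 1 → x ^ (j * 3) = 1 := fun j hj => by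
    rw [pow_mul, hl j (Subtype.ext ((hr j).trans hj)), ← map_pow, pow_three_inl, map_one]
  by_cases hP : x ^ n = 1
  · exact hn _ (orderOf_dvd_of_pow_eq_one hP)
  have hxn := hl n (Subtype.ext ((hr n).trans hn'))
  have hne : (x ^ n).left ≠ 1 := fun e => hP (by rw [hxn, e, map_one])
  have hfix : chi k (s, M) (x ^ n).left = (x ^ n).left := by
    have hc : x * x ^ n = x ^ n * x := (Commute.self_pow x n).eq
    rw [hxn] at hc
    have hc' := congrArg (fun z => z.left) hc
    simp only [SemidirectProduct.mul_left, SemidirectProduct.left_inl, SemidirectProduct.right_inl, map_one,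
      MulAut.one_apply] at hc'
    rw [mul_comm (x ^ n).left] at hc'
    have hh' : (Gb F k).subtype x.right = chi k (s, M) := hh.symm
    rw [hh'] at hc'
    exact mul_left_cancel hc'
  rcases fixed_vector hns hk (s, M) hne hfix with e | e
  · exact Or.inl (orderOf_dvd_of_pow_eq_one (h6 2 e))
  · exact Or.inr (Or.inl (orderOf_dvd_of_pow_eq_one (h6 3 e)))

theorem orderOf_inr (k : ℕ) (p : ℤˣ × SL(2, F)) :
    orderOf (SemidirectProduct.inr ⟨chi k p, p, rfl⟩ : XX F k) = orderOf (chi k p) := by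
  rw [orderOf_injective (SemidirectProduct.inr : ↥(Gb F k) →* XX F k) SemidirectProduct.inr_injective]
  exact (orderOf_injective (Gb F k).subtype Subtype.val_injective _).symm

theorem upperSL_pow (t : F) (n : ℕ) : (upperSL t) ^ n = upperSL ((n : F) * t) := by
  induction n with
  | zero => simp [upperSL_zero]
  | succ n ih => rw [pow_succ, ih, sl2Rels_SL.add]; push_cast; ring_nf

theorem exists_base (hm : 1 ≤ m) (hF : Fintype.card F = 3 ^ (2 * m + 1)) {k : ℕ} (hk : 0 < k) :
    (∃ x : XX F k, orderOf x = 6) ∧ (∃ x : XX F k, orderOf x = 9) ∧ (∃ x : XX F k, orderOf x = qq m - 1) ∧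
      ∃ x : XX F k, orderOf x = 2 * aa m := by
  classical
  have hns := no_sqrt_neg_one hF
  have h2 := fixed_vector.two_ne_zero_of_ns' hns
  have hq8 := (rr_pow (m := m)).2.2.1
  have h4 := four_aa m
  have hneg : ∀ j : ℕ, ((-1 : ℤˣ)) ^ j = 1 → Even j := fun j hj => by
    rcases Nat.even_or_odd j with h | h
    · exact h
    · rw [h.neg_one_pow] at hj; exact absurd hj (by decide)
  have e : (chi (F := F) k (1, upperSL 1)) ^ 3 = 1 := by
    rw [← map_pow, trivial_iff hk h2]
    refine ⟨one_pow 3, Or.inl ?_⟩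
    show ((upperSL (1 : F) ^ 3 : SL(2, F)) : Matrix (Fin 2) (Fin 2) F) = 1
    rw [upperSL_pow, CharP.cast_eq_zero F 3, zero_mul, upperSL_zero, Matrix.SpecialLinearGroup.coe_one]
  have hup : ∀ j : ℕ, IsSgn ((upperSL (1 : F)) ^ j) → 3 ∣ j := fun j hj => by
    rw [upperSL_pow, mul_one, IsSgn, coe_upperSL] at hj
    rcases hj with hj | hj
    · have := congrFun (congrFun hj 0) 1
      simp at this
      exact (CharP.cast_eq_zero_iff F 3 j).1 this
    · have := congrFun (congrFun hj 0) 1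
      simp at this
      exact (CharP.cast_eq_zero_iff F 3 j).1 this
  refine ⟨⟨_, (orderOf_inr k (-1, upperSL 1)).trans ?_⟩, ?_, ?_, ?_⟩
  · refine (orderOf_eq_iff (by norm_num)).2 ⟨?_, fun j hj hj0 hpow => ?_⟩
    · rw [← map_pow, trivial_iff hk h2]
      refine ⟨(by decide : (-1 : ℤˣ) ^ 6 = 1), Or.inl ?_⟩
      show ((upperSL (1 : F) ^ 6 : SL(2, F)) : Matrix (Fin 2) (Fin 2) F) = 1
      rw [upperSL_pow, show ((6 : ℕ) : F) = 0 from (CharP.cast_eq_zero_iff F 3 6).2 (by norm_num), zero_mul,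
        upperSL_zero, Matrix.SpecialLinearGroup.coe_one]
    · rw [← map_pow, trivial_iff hk h2] at hpow
      obtain ⟨i, rfl⟩ := hneg j hpow.1
      have := hup _ hpow.2
      omega
  · -- order 9
    let v : Multiplicative (W F k) := Multiplicative.ofAdd fun _ => !![0, 0; 1, 0]
    let x : XX F k := ⟨v, ⟨chi k (1, upperSL 1), (1, upperSL 1), rfl⟩⟩
    refine ⟨x, ?_⟩
    haveI := Fact.mk Nat.prime_three
    refine orderOf_eq_prime_pow (p := 3) (n := 1) (fun hx => ?_) ?_
    · have hl := congrArg (fun z => (Multiplicative.toAdd z.left) ⟨0, hk⟩) hx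
      simp only [pow_one, pow_succ, pow_zero, one_mul, SemidirectProduct.mul_left, SemidirectProduct.mul_right,
        SemidirectProduct.one_left, map_mul, MulAut.mul_apply, toAdd_mul, Pi.add_apply, toAdd_one, Pi.zero_apply] at hl
      simp only [x, Subgroup.coe_subtype, chi_apply, act, v, toAdd_ofAdd] at hl
      have hti : ((tw F (upperSL (1 : F))⁻¹ : SL(2, F)) : Matrix (Fin 2) (Fin 2) F) = !![1, -1; 0, 1] := by
        rw [inv_eq_of_mul_eq_one_right (show upperSL (1 : F) * upperSL (-1) = 1 by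
          rw [sl2Rels_SL.add, add_neg_cancel, upperSL_zero])]
        ext i j
        rw [coe_tw, coe_upperSL]
        fin_cases i <;> fin_cases j <;> simp <;> ring
      rw [hti, coe_upperSL] at hl
      have e01 := congrFun (congrFun hl 0) 1
      simp [Matrix.mul_apply, Fin.sum_univ_two] at e01
      have h3 : (3 : F) = 0 := by exact_mod_cast CharP.cast_eq_zero F 3
      exact h2 (by linear_combination -e01 - h3)
    · have hr : (x ^ 3).right = 1 := by
        have : (x ^ 3).right = x.right ^ 3 := map_pow (SemidirectProduct.rightHom) x 3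
        rw [this]
        exact Subtype.ext (by rw [Subgroup.coe_pow]; exact e)
      have hx3 : x ^ 3 = SemidirectProduct.inl (x ^ 3).left := SemidirectProduct.ext rfl hr
      rw [show (3 : ℕ) ^ (1 + 1) = 3 * 3 by norm_num, pow_mul, hx3, ← map_pow, pow_three_inl, map_one]
  · -- split torus
    obtain ⟨a, ha⟩ := IsCyclic.exists_ofOrder_eq_natCard (α := Fˣ)
    rw [Nat.card_units, Nat.card_eq_fintype_card, hF] at ha
    let D : SL(2, F) := PSL2.dd a
    refine ⟨_, (orderOf_inr k (-1, D)).trans ?_⟩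
    have hD : ∀ j : ℕ, IsSgn (D ^ j) → a ^ (2 * j) = 1 := fun j hj => by
      have hc := (PSL2.dd_mem_center_iff (a := a ^ j)).1 (by
        rw [← PSL2.dd_pow, PSL2.mem_center_iff_pm]
        rcases hj with h | h
        · exact Or.inl (Subtype.ext h)
        · exact Or.inr (Subtype.ext (by rw [h]; rfl)))
      rw [Units.ext_iff, Units.val_pow_eq_pow_val, mul_comm, pow_mul, ← Units.val_pow_eq_pow_val, hc, Units.val_one]
    obtain ⟨hq4, -, h26⟩ := q_sub_facts hm
    refine (orderOf_eq_iff (by omega)).2 ⟨?_, fun j hj hj0 hpow => ?_⟩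
    · rw [← map_pow, trivial_iff hk h2]
      refine ⟨?_, Or.inl ?_⟩
      · show (-1 : ℤˣ) ^ (qq m - 1) = 1
        exact Even.neg_one_pow ⟨(qq m - 1) / 2, by omega⟩
      · show ((D ^ (qq m - 1) : SL(2, F)) : Matrix (Fin 2) (Fin 2) F) = 1
        rw [PSL2.dd_pow, show a ^ (qq m - 1) = 1 from ha ▸ pow_orderOf_eq_one a, PSL2.dd_one,
          Matrix.SpecialLinearGroup.coe_one]
    · rw [← map_pow, trivial_iff hk h2] at hpow
      obtain ⟨i, rfl⟩ := hneg j hpow.1
      have hd := orderOf_dvd_of_pow_eq_one (hD _ hpow.2)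
      rw [ha] at hd
      change qq m - 1 ∣ 2 * (i + i) at hd
      have hcop : Nat.Coprime ((qq m - 1) / 2) 2 := Nat.coprime_two_right.2 (by rw [Nat.odd_iff]; omega)
      have h1 : (qq m - 1) / 2 ∣ i + i := by
        refine hcop.dvd_of_dvd_mul_left ?_
        exact dvd_trans ⟨2, by omega⟩ hd
      have h2' : (qq m - 1) / 2 ∣ i := by
        rw [← two_mul] at h1
        exact hcop.dvd_of_dvd_mul_left h1
      have := Nat.le_of_dvd (by omega) h2'
      omega
  · -- non-split torus
    obtain ⟨g, hg, hord⟩ : ∃ g : SL(2, F), g ∈ NT F ∧ orderOf g = qq m + 1 := by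
      obtain ⟨g, hg, -, ho⟩ := exists_generator' (A := NT F) (isCyclic_NT hns)
      exact ⟨g, hg, by rw [ho, card_NT hns, hF]⟩
    refine ⟨_, (orderOf_inr k (1, g)).trans ?_⟩
    have h7 := aa_facts hm
    refine (orderOf_eq_iff (by omega)).2 ⟨?_, fun j hj hj0 hpow => ?_⟩
    · rw [← map_pow, trivial_iff hk h2]
      refine ⟨one_pow _, ?_⟩
      show IsSgn (g ^ (2 * aa m))
      have hsq : g ^ (2 * aa m) * g ^ (2 * aa m) = 1 := by
        rw [← pow_add, show 2 * aa m + 2 * aa m = orderOf g by omega, pow_orderOf_eq_one]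
      rcases PSL2.eq_pm_of_mul_self_eq_one h2 hsq with h | h
      · exact Or.inl (by rw [h]; rfl)
      · exact Or.inr (by rw [h]; rfl)
    · rw [← map_pow, trivial_iff hk h2] at hpow
      have h2j : g ^ (2 * j) = 1 := by
        have hp2 : IsSgn (g ^ j) := hpow.2
        rcases sgn_cases hp2 with h | h
        · rw [mul_comm, pow_mul, h, one_pow]
        · rw [mul_comm, pow_mul, h, sq]
          nth_rewrite 1 [← flip_sq_inv]
          exact inv_mul_cancel _
      have := Nat.le_of_dvd (by omega) (orderOf_dvd_of_pow_eq_one h2j)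
      omega

end Cfsg.Agent.ReeTori.Cube

namespace Cfsg.Agent.ReeTori.Cube

open scoped MatrixGroups

/-- The orders of the small Ree group. -/
def ReeOrder (m d : ℕ) : Prop := Small m d ∨ d ∣ cc m ∨ d ∣ dd m

theorem reeOrder_iff {F : Type*} [Field F] [Fintype F] [CharP F 3] {m : ℕ} (hm : 1 ≤ m)
    (hF : Fintype.card F = 3 ^ (2 * m + 1)) (d : ℕ) : (∃ g : RG F m, orderOf g = d) ↔ ReeOrder m d := by
  rw [element_orders hF hm d, aa_eq (m := m)]
  simp only [ReeOrder, Small, or_assoc]

theorem range_cube {A B X : Type*} [Group A] [Group B] [Group X] {m : ℕ}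
    (hA : ∀ d, (∃ g : A, orderOf g = d) ↔ ReeOrder m d) (hB : ∀ d, (∃ g : B, orderOf g = d) ↔ ReeOrder m d)
    (hX : ∀ x : X, Small m (orderOf x)) (hX' : ∀ d, Small m d → ∃ x : X, orderOf x = d) :
    Set.range (orderOf : A × A × X → ℕ) = Set.range (orderOf : B × B × B → ℕ) := by
  have lcmB : ∀ a b c : ℕ, ReeOrder m a → ReeOrder m b → Small m c →
      Nat.lcm a (Nat.lcm b c) ∈ Set.range (orderOf : A × A × X → ℕ) := by
    intro a b c ha hb hc
    obtain ⟨u, hu⟩ := (hA a).2 ha
    obtain ⟨v, hv⟩ := (hA b).2 hb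
    obtain ⟨w, hw⟩ := hX' c hc
    exact ⟨(u, v, w), by rw [Prod.orderOf, Prod.orderOf, hu, hv, hw]⟩
  have one : Small m 1 := Or.inl (one_dvd 6)
  ext d
  constructor
  · rintro ⟨⟨u, v, w⟩, rfl⟩
    obtain ⟨u', hu⟩ := (hB _).2 ((hA _).1 ⟨u, rfl⟩)
    obtain ⟨v', hv⟩ := (hB _).2 ((hA _).1 ⟨v, rfl⟩)
    obtain ⟨w', hw⟩ := (hB _).2 (Or.inl (hX w))
    exact ⟨(u', v', w'), by simp only [Prod.orderOf, hu, hv, hw]⟩
  · rintro ⟨⟨u, v, w⟩, rfl⟩
    rw [Prod.orderOf, Prod.orderOf]
    have ha := (hB _).1 ⟨u, rfl⟩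
    have hb := (hB _).1 ⟨v, rfl⟩
    have hc := (hB _).1 ⟨w, rfl⟩
    generalize orderOf u = a at ha
    generalize orderOf v = b at hb
    generalize orderOf w = c at hc
    rcases hc with hc | hc
    · exact lcmB a b c ha hb hc
    rcases hb with hb | hb
    · rw [Nat.lcm_comm b c]
      exact lcmB a c b ha (Or.inr hc) hb
    rcases ha with ha | ha
    · rw [Nat.lcm_comm a (Nat.lcm b c), Nat.lcm_assoc]
      exact lcmB b c a (Or.inr hb) (Or.inr hc) ha
    have two : (a ∣ cc m ∧ b ∣ cc m ∨ a ∣ dd m ∧ b ∣ dd m) ∨ (a ∣ cc m ∧ c ∣ cc m ∨ a ∣ dd m ∧ c ∣ dd m) ∨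
        (b ∣ cc m ∧ c ∣ cc m ∨ b ∣ dd m ∧ c ∣ dd m) := by
      rcases ha with ha | ha <;> rcases hb with hb | hb <;> rcases hc with hc | hc <;> simp [*]
    have merge : ∀ x y, (x ∣ cc m ∧ y ∣ cc m ∨ x ∣ dd m ∧ y ∣ dd m) → ReeOrder m (Nat.lcm x y) := by
      rintro x y (⟨hx, hy⟩ | ⟨hx, hy⟩)
      · exact Or.inr (Or.inl (Nat.lcm_dvd hx hy))
      · exact Or.inr (Or.inr (Nat.lcm_dvd hx hy))
    rcases two with h | h | h
    · have := lcmB (Nat.lcm a b) c 1 (merge _ _ h) (Or.inr hc) one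
      rwa [Nat.lcm_one_right, Nat.lcm_assoc] at this
    · have := lcmB (Nat.lcm a c) b 1 (merge _ _ h) (Or.inr hb) one
      rwa [Nat.lcm_one_right, Nat.lcm_assoc, Nat.lcm_comm c b] at this
    · have := lcmB a (Nat.lcm b c) 1 (Or.inr ha) (merge _ _ h) one
      rwa [Nat.lcm_one_right] at this

theorem exists_small {F : Type} [Field F] [CharP F 3] [Fintype F] {m : ℕ} (hm : 1 ≤ m)
    (hF : Fintype.card F = 3 ^ (2 * m + 1)) {k : ℕ} (hk : 0 < k) (d : ℕ) (hd : Small m d) :
    ∃ x : XX F k, orderOf x = d := by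
  haveI : Finite (MulAut (Multiplicative (W F k))) := Finite.of_injective _ DFunLike.coe_injective
  haveI : Finite (XX F k) := Finite.of_equiv _ SemidirectProduct.equivProd.symm
  obtain ⟨⟨a, ha⟩, ⟨b, hb⟩, ⟨c, hc⟩, ⟨e, he⟩⟩ := exists_base hm hF hk
  rcases hd with h | h | h | h
  · exact exists_order_cyclic (Subgroup.zpowers a) (by rw [Nat.card_zpowers, ha]; exact h)
  · exact exists_order_cyclic (Subgroup.zpowers b) (by rw [Nat.card_zpowers, hb]; exact h)
  · exact exists_order_cyclic (Subgroup.zpowers c) (by rw [Nat.card_zpowers, hc]; exact h)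
  · exact exists_order_cyclic (Subgroup.zpowers e) (by rw [Nat.card_zpowers, he]; exact h)

end Cfsg.Agent.ReeTori.Cube
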